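import Cfsg.Agent.Lib.CharTheory.PermChar
import Cfsg.Agent.Lib.CharTheory.Decomp
import Cfsg.Agent.Lib.CharTheory.Inflation
import Cfsg.Agent.Lib.CharTheory.ExteriorSquare
import Cfsg.Agent.Lib.Coherence.Virtual
import Mathlib.GroupTheory.SpecificGroups.Alternating

/-!
# Rational constituents of a character of `A₅`

The characters `1`, `4`, `5` and `3 + 3'` of `A₅` give four natural numbers determining the
rational information of a character of `A₅`.
-/

set_option autoImplicit false
set_option maxRecDepth 100000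

namespace CfsgLib.J1Order

open Cfsg CfsgLib.CharTheory Finset
open scoped ComplexConjugate

/-- The alternating group of degree five. -/
abbrev A5 := alternatingGroup (Fin 5)

/-- An involution. -/
def uu : A5 := ⟨Equiv.swap 0 1 * Equiv.swap 2 3, Equiv.Perm.mem_alternatingGroup.2 (by decide)⟩
/-- An element of order three. -/
def cc : A5 := ⟨Equiv.swap 0 1 * Equiv.swap 1 2, Equiv.Perm.mem_alternatingGroup.2 (by decide)⟩
/-- An element of order five. -/
def aa : A5 := ⟨finRotate 5, Equiv.Perm.mem_alternatingGroup.2 (by decide)⟩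

/-- The class representatives. -/
def rep5 : Fin 5 → A5 := ![1, uu, cc, aa, aa ^ 2]

/-- The conjugacy class, as an index. -/
def cls5 (x : A5) : Fin 5 :=
  if x = 1 then 0 else if x * x = 1 then 1 else if x * x * x = 1 then 2 else
    if (univ.filter fun y : A5 => y * x = aa * y).Nonempty then 3 else 4

theorem exists_conj_rep5 : ∀ x : A5, ∃ y : A5, y * x * y⁻¹ = rep5 (cls5 x) := by
  decide +kernel

theorem card_cls5 : ∀ i : Fin 5,
    (univ.filter fun x : A5 => cls5 x = i).card = ![1, 15, 20, 12, 12] i := by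
  decide +kernel

theorem card_A5 : Nat.card A5 = 60 := by
  rw [Nat.card_eq_fintype_card]; decide +kernel

theorem apply_eq_rep5 {θ : A5 → ℂ} (h : IsClassFunction A5 θ) (x : A5) :
    θ x = θ (rep5 (cls5 x)) := by
  obtain ⟨y, hy⟩ := exists_conj_rep5 x
  rw [← hy]; exact (h x y).symm

/-- A sum of a class function over `A₅`. -/
theorem sum_A5 {θ : A5 → ℂ} (h : IsClassFunction A5 θ) :
    ∑ x : A5, θ x = θ 1 + 15 * θ uu + 20 * θ cc + 12 * θ aa + 12 * θ (aa ^ 2) := by
  rw [← Finset.sum_fiberwise univ cls5 θ]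
  simp only [Fin.sum_univ_five]
  have e : ∀ i, ∑ x ∈ univ.filter (fun x => cls5 x = i), θ x =
      ((![1, 15, 20, 12, 12] i : ℕ) : ℂ) * θ (rep5 i) := by
    intro i
    rw [Finset.sum_congr rfl (fun x hx => by rw [apply_eq_rep5 h x, (mem_filter.1 hx).2]),
      Finset.sum_const, card_cls5, nsmul_eq_mul]
  simp only [e, rep5]
  simp

/-- Number of fixed points less one. -/
def four5 (x : A5) : ℤ := (univ.filter fun i : Fin 5 => (x : Equiv.Perm (Fin 5)) i = i).card - 1

/-- The sum of the two characters of degree three. -/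
def six5 (x : A5) : ℤ := (four5 x ^ 2 - four5 (x * x)) / 2

/-- The character of degree five. -/
def five5 (x : A5) : ℤ := four5 x ^ 2 - 1 - four5 x - six5 x

theorem table5 : ∀ i : Fin 5, four5 (rep5 i) = ![4, 0, 1, -1, -1] i ∧
    six5 (rep5 i) = ![6, -2, 0, 1, 1] i ∧ five5 (rep5 i) = ![5, 1, -1, 0, 0] i ∧
    (four5 (rep5 i) ^ 2 - four5 (rep5 i * rep5 i)) % 2 = 0 := by
  decide +kernel

theorem six5_even : ∀ x : A5, (four5 x ^ 2 - four5 (x * x)) % 2 = 0 := by
  decide +kernel

theorem isGen_four5 : IsGeneralizedCharacter A5 fun x => (four5 x : ℂ) := by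
  classical
  refine ⟨_, _, isCharacter_card_fixedBy (G := A5) (Fin 5),
    IsIrrCharacter.isCharacter isIrrCharacter_one, ?_⟩
  funext x
  have e : Nat.card (MulAction.fixedBy (Fin 5) x) =
      (univ.filter fun i : Fin 5 => (x : Equiv.Perm (Fin 5)) i = i).card := by
    rw [Nat.card_eq_fintype_card, Fintype.card_subtype]
    exact congrArg Finset.card (Finset.filter_congr fun i _ => Iff.rfl)
  simp only [four5, Pi.sub_apply, Int.cast_sub, Int.cast_natCast, Int.cast_one, e]

theorem isClass_of_int (f : A5 → ℤ) (h : ∀ x : A5, f x = f (rep5 (cls5 x))) :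
    ∀ x, (f x : ℂ) = (f (rep5 (cls5 x)) : ℂ) := fun x => by rw [← h]

theorem classInner_A5 {φ ψ : A5 → ℂ} (hφ : IsClassFunction A5 φ) (hψ : IsClassFunction A5 ψ) :
    classInner φ ψ = (φ 1 * conj (ψ 1) + 15 * (φ uu * conj (ψ uu)) + 20 * (φ cc * conj (ψ cc)) +
      12 * (φ aa * conj (ψ aa)) + 12 * (φ (aa ^ 2) * conj (ψ (aa ^ 2)))) / 60 := by
  rw [classInner, card_A5, sum_A5 (θ := fun x => φ x * conj (ψ x)) fun g x => by
    simp only [hφ g x, hψ g x]]
  push_cast
  ring

theorem isIrr_four5 : IsIrrCharacter A5 fun x => (four5 x : ℂ) := by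
  have hc := IsGeneralizedCharacter.isClassFunction isGen_four5
  refine isIrrCharacter_of_norm_one isGen_four5 ?_ ?_
  · rw [classInner_A5 hc hc]
    have h0 := (table5 0).1; have h1 := (table5 1).1; have h2 := (table5 2).1
    have h3 := (table5 3).1; have h4 := (table5 4).1
    simp [rep5] at h0 h1 h2 h3 h4
    simp [h0, h1, h2, h3, h4, map_ofNat]
    norm_num
  · have h0 := (table5 0).1
    simp [rep5] at h0
    simp [h0]

theorem isCharacter_six5 : IsCharacter A5 fun x => (six5 x : ℂ) := by
  have := ExteriorSquare.isCharacter_extSquare (IsIrrCharacter.isCharacter isIrr_four5)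
  convert this using 1
  funext x
  obtain ⟨k, hk⟩ := Int.dvd_of_emod_eq_zero (six5_even x)
  have e : six5 x = k := by simp [six5, hk]
  rw [e, eq_div_iff (by norm_num)]
  have := congrArg (Int.cast (R := ℂ)) hk
  push_cast at this
  linear_combination -this

theorem isIrr_five5 : IsIrrCharacter A5 fun x => (five5 x : ℂ) := by
  have h4 := IsIrrCharacter.isCharacter isIrr_four5
  have hg : IsGeneralizedCharacter A5 fun x => (five5 x : ℂ) := by
    refine ⟨_, _, isCharacter_mul h4 h4,
      Coherence.isCharacter_add (IsIrrCharacter.isCharacter isIrrCharacter_one)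
        (Coherence.isCharacter_add h4 isCharacter_six5), ?_⟩
    funext x
    simp [five5]
    ring
  have hc := IsGeneralizedCharacter.isClassFunction hg
  refine isIrrCharacter_of_norm_one hg ?_ ?_
  · rw [classInner_A5 hc hc]
    have h0 := (table5 0).2.2.1; have h1 := (table5 1).2.2.1; have h2 := (table5 2).2.2.1
    have h3 := (table5 3).2.2.1; have h4 := (table5 4).2.2.1
    simp [rep5] at h0 h1 h2 h3 h4
    simp [h0, h1, h2, h3, h4, map_ofNat]
    norm_num
  · have h0 := (table5 0).2.2.1
    simp [rep5] at h0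
    simp [h0]

/-- The rational shape of a character of `A₅`. -/
theorem exists_rational_shape {θ : A5 → ℂ} (h : IsCharacter A5 θ) :
    ∃ n1 n4 n5 m : ℕ, θ 1 = (n1 + 4 * n4 + 5 * n5 + 3 * m : ℕ) ∧
      θ uu = (n1 : ℂ) - m + n5 ∧ θ cc = (n1 : ℂ) + n4 - n5 ∧
      θ aa + θ (aa ^ 2) = 2 * (n1 : ℂ) - 2 * n4 + m := by
  classical
  haveI := Fintype.ofFinite (IrrCharacter A5)
  have hc := IsCharacter.isClassFunction h
  obtain ⟨n1, e1⟩ := IsCharacter.exists_classInner_eq_nat h (trivIrr A5)
  obtain ⟨n4, e4⟩ := IsCharacter.exists_classInner_eq_nat h ⟨_, isIrr_four5⟩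
  obtain ⟨n5, e5⟩ := IsCharacter.exists_classInner_eq_nat h ⟨_, isIrr_five5⟩
  obtain ⟨m, e6⟩ : ∃ m : ℕ, classInner θ (fun x => (six5 x : ℂ)) = m := by
    obtain ⟨c, hc6⟩ := IsCharacter.exists_sum (G := A5) isCharacter_six5
    choose k hk using fun ψ => IsCharacter.exists_classInner_eq_nat h ψ
    refine ⟨∑ ψ, c ψ * k ψ, ?_⟩
    rw [hc6, classInner_sum_right]
    push_cast
    exact sum_congr rfl fun ψ _ => by rw [classInner_smul_right, hk]; simp
  rw [classInner_A5 hc (IsIrrCharacter.isClassFunction (trivIrr A5).2)] at e1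
  rw [classInner_A5 hc (IsIrrCharacter.isClassFunction isIrr_four5)] at e4
  rw [classInner_A5 hc (IsIrrCharacter.isClassFunction isIrr_five5)] at e5
  rw [classInner_A5 hc (IsCharacter.isClassFunction isCharacter_six5)] at e6
  have t0 := table5 0; have t1 := table5 1; have t2 := table5 2
  have t3 := table5 3; have t4 := table5 4
  simp [rep5] at t0 t1 t2 t3 t4
  simp [trivIrr_apply] at e1
  simp [t0, t1, t2, t3, t4, map_ofNat] at e4 e5 e6
  refine ⟨n1, n4, n5, m, ?_, ?_, ?_, ?_⟩
  · push_cast; linear_combination e1 + 4 * e4 + 5 * e5 + 3 * e6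
  · linear_combination e1 - e6 + e5
  · linear_combination e1 + e4 - e5
  · linear_combination 2 * e1 - 2 * e4 + e6

end CfsgLib.J1Order
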