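import Mathlib.Data.ZMod.Basic
import Mathlib.Tactic.Ring

/-!
# Finite diophantine checks
-/

set_option autoImplicit false
set_option maxRecDepth 100000

namespace CfsgLib.J1Order

/-- The common denominator in the two-two case. -/
def num8 (a b : ℤ) : ℤ := a * b * (-1 - a - b) + 4 * (-1 - a - b) * (a + b) + 25 * (a * b)

/-- The denominator. -/
def den8 (a b : ℤ) : ℤ := a * b * (-1 - a - b)

/-- The second equation of the two-two case. -/
def five8 (N a b e e' g : ℤ) : Bool :=
  N * (2 * g * e * e' * a * b - 72 * e * e' * a * b - 9 * g * e' * a * b - 9 * g * e * a * b +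
    4 * g * e * e' * b + 4 * g * e * e' * a) == 288000 * g * e * e' * a * b

/-- The check at a pair. -/
def check8 (a b : ℤ) : Bool :=
  let num := num8 a b
  let den := den8 a b
  let N := 86400 * den / num
  let c := -1 - a - b
  !(den != 0 && num != 0 && (86400 * den) % num == 0 && N % 240 == 120 &&
      (1 + a * a + b * b + c * c ≤ N : Bool)) ||
    ((N ≤ 35940025 : Bool) && (List.range 1500).all fun j =>
      let e : ℤ := 8 * (j : ℤ) - 5995
      let e' := e + a - b
      let g := -c - e - a
      !((e * e ≤ N : Bool) && e' != 0 && g != 0 && five8 N a b e e' g) ||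
        (a == -42 && b == 6) || (a == 6 && b == -42))

/-- The numerator in the standard case. -/
def num11 (u u2 : ℤ) : ℤ := (u + u2) * u * u2 - 25 * (u + u2 - 1) * (u + u2)

/-- The denominator. -/
def den11 (u u2 : ℤ) : ℤ := (u + u2 - 1) * u * u2

/-- The check at a pair. -/
def check11 (u u2 : ℤ) : Bool :=
  let num := num11 u u2
  let den := den11 u u2
  let N := 86400 * den / num
  let s := u + u2 - 1
  !(den != 0 && num != 0 && (86400 * den) % num == 0 && N % 240 == 120 &&
      (1 + s * s + u * u + u2 * u2 ≤ N : Bool)) ||
    ((N ≤ 990025 : Bool) && (List.range 250).all fun j =>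
      let e : ℤ := 8 * (j : ℤ) - 995
      let e2 := s + 1 - e
      !((e * e ≤ N : Bool) && e2 != 0 &&
          N * ((s + 1) * e * e2 - 9 * s * (s + 1)) == 144000 * s * e * e2) ||
        N == 175560 || (N == 189000 && s == -15 && ((u == 21 && u2 == -35) || (u == -35 && u2 == 21))))

theorem checks8 : ((List.range 176).all fun i => (List.range 176).all fun k =>
    check8 (8 * (i : ℤ) - 698) (8 * (k : ℤ) - 698)) = true := by
  decide +kernel

theorem checks11 : ((List.range 201).all fun i => (List.range 201).all fun k =>
    check11 (8 * (i : ℤ) - 803) (8 * (k : ℤ) - 803)) = true := by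
  decide +kernel

theorem two_adic : ∀ b j : ZMod 32,
    let B := 8 * b + 7
    let e := 8 * j + 3
    let p := e * (2 * B - e)
    let s := -1 - 2 * B
    s * B * p + B * p + 48 * s * p + 50 * s * B * B = 0 := by
  decide +kernel

end CfsgLib.J1Order
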