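import Cfsg.Agent.Lib.J1Order.Rows
import Cfsg.Agent.Lib.J1Order.ArithChecks
import Mathlib.Tactic.IntervalCases

/-!
# The order
-/

set_option autoImplicit false
set_option maxRecDepth 100000

namespace CfsgLib.J1Order

theorem exists_list_map {α β : Type*} (f : α → β) :
    ∀ (l : List β) (m : Multiset α), m.map f = (l : Multiset β) →
      ∃ L : List α, L.map f = l ∧ (L : Multiset α) = m
  | [], m, h => ⟨[], rfl, by
      rw [Multiset.coe_nil, Multiset.map_eq_zero] at h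
      exact h.symm⟩
  | b :: l, m, h => by
    classical
    rw [← Multiset.cons_coe] at h
    obtain ⟨a, ha, hab⟩ := Multiset.mem_map.1 (h.symm ▸ Multiset.mem_cons_self b _ : b ∈ m.map f)
    obtain ⟨m', rfl⟩ := Multiset.exists_cons_of_mem ha
    rw [Multiset.map_cons, hab, Multiset.cons_inj_right] at h
    obtain ⟨L, hL, hL'⟩ := exists_list_map f l m' h
    exact ⟨a :: L, by rw [List.map_cons, hab, hL], by rw [← Multiset.cons_coe, hL']⟩

theorem feas21 {g : ℤ} (h : Feas 21 5 (-1) 0 g) : g = 3 := by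
  obtain ⟨a1, a4, a5, am, b1, b4, b5, bm, h⟩ := h
  omega

theorem feas35 {g : ℤ} (h : Feas 35 (-5) 1 0 g) : g = -1 := by
  obtain ⟨a1, a4, a5, am, b1, b4, b5, bm, h⟩ := h
  omega

theorem feas15 {g : ℤ} (h : Feas 15 (-1) (-1) (-2) g) : g = 3 := by
  obtain ⟨a1, a4, a5, am, b1, b4, b5, bm, h⟩ := h
  omega

theorem feas6 {g : ℤ} (h : Feas 6 (-2) 1 1 g) : False := by
  obtain ⟨a1, a4, a5, am, b1, b4, b5, bm, h⟩ := h
  omega

theorem abs_div_le {k x : ℚ} {r : ℚ} (hk : 0 ≤ k) (hr : 0 < r) (hx : r ≤ |x|) :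
    -(k / r) ≤ k / x ∧ k / x ≤ k / r := by
  have : |k / x| ≤ k / r := by
    rw [abs_div, abs_of_nonneg hk]
    exact div_le_div_of_nonneg_left hk hr hx
  exact abs_le.1 this

theorem cast_abs_ge {x : ℤ} {r : ℕ} (h : r ≤ x.natAbs) : (r : ℚ) ≤ |(x : ℚ)| := by
  rw [← Int.cast_abs]
  rw [← Int.natCast_natAbs]
  exact_mod_cast h

theorem cast_sq_ge {x : ℤ} {r : ℕ} (h : r ≤ x.natAbs) : (r : ℚ) * r ≤ (x : ℚ) * x := by
  have h1 := cast_abs_ge h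
  have h2 := abs_mul_abs_self (x : ℚ)
  nlinarith [h1, (Nat.cast_nonneg r : (0 : ℚ) ≤ r)]

/-- The bound in the standard case. -/
theorem bound11 {N : ℕ} {u u2 : ℤ} (hu : (8 : ℤ) ∣ u - 5) (hu2 : (8 : ℤ) ∣ u2 - 5)
    (hs : 7 ≤ (u + u2 - 1).natAbs) (hu0 : 2 ≤ u.natAbs) (hu20 : 2 ≤ u2.natAbs)
    (hN : (1 + (u + u2 - 1) * (u + u2 - 1) + u * u + u2 * u2 : ℤ) ≤ N)
    (hL : (N : ℚ) * (1 + 1 / ((u + u2 - 1 : ℤ) : ℚ) - 25 / u - 25 / u2) = 86400) :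
    u.natAbs ≤ 800 := by
  by_contra h
  have hM : 801 ≤ u.natAbs := by omega
  have hN' : (1 : ℚ) + ((u + u2 - 1 : ℤ) : ℚ) * ((u + u2 - 1 : ℤ) : ℚ) + (u : ℚ) * u + (u2 : ℚ) * u2
      ≤ N := by exact_mod_cast hN
  have bu := abs_div_le (k := 25) (by norm_num) (by norm_num) (cast_abs_ge hM)
  have qu := cast_sq_ge hM
  push_cast at bu qu
  have n0 : (0 : ℚ) < N := by
    nlinarith [mul_self_nonneg (u2 : ℚ), mul_self_nonneg ((u + u2 - 1 : ℤ) : ℚ)]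
  set L := 1 + 1 / ((u + u2 - 1 : ℤ) : ℚ) - 25 / (u : ℚ) - 25 / u2 with hLdef
  have hLpos : 0 < L := by nlinarith
  by_cases h2 : 60 ≤ u2.natAbs
  · have bs := abs_div_le (k := 1) (by norm_num) (by norm_num) (cast_abs_ge hs)
    have b2 := abs_div_le (k := 25) (by norm_num) (by norm_num) (cast_abs_ge h2)
    push_cast at bs b2
    have : (2 / 5 : ℚ) ≤ L := by rw [hLdef]; push_cast; linarith [bs.1, bs.2, b2.1, b2.2, bu.1, bu.2]
    nlinarith [mul_self_nonneg (u2 : ℚ), mul_self_nonneg ((u + u2 - 1 : ℤ) : ℚ)]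
  · have hsM : 739 ≤ (u + u2 - 1).natAbs := by omega
    have bs := abs_div_le (k := 1) (by norm_num) (by norm_num) (cast_abs_ge hsM)
    have qs := cast_sq_ge hsM
    push_cast at bs qs
    have gap : (1 - 25 / (u2 : ℚ)) ≤ -(1 / 8) ∨ (1 / 8 : ℚ) ≤ 1 - 25 / u2 := by
      have l1 : -59 ≤ u2 := by omega
      have l2 : u2 ≤ 59 := by omega
      interval_cases u2 <;> first | omega | norm_num
    rcases gap with g | g
    · have : L ≤ 0 := by rw [hLdef]; push_cast; linarith [bs.1, bs.2, bu.1, bu.2]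
      linarith
    · have hl : (23 / 250 : ℚ) ≤ L := by rw [hLdef]; push_cast; linarith [bs.1, bs.2, bu.1, bu.2]
      have hn : (1000000 : ℚ) ≤ N := by
        push_cast at hN'
        linarith [mul_self_nonneg (u2 : ℚ)]
      linarith [mul_le_mul hl hn (by norm_num) hLpos.le, mul_comm L (N : ℚ)]

/-- The bound in the two-two case. -/
theorem bound8 {N : ℕ} {a b : ℤ} (ha : (8 : ℤ) ∣ a - 6) (hb : (8 : ℤ) ∣ b - 6)
    (hc0 : 2 ≤ (-1 - a - b).natAbs)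
    (hN : (1 + a * a + b * b + (-1 - a - b) * (-1 - a - b) : ℤ) ≤ N)
    (hL : (N : ℚ) * (1 + 4 / (a : ℚ) + 4 / b + 25 / ((-1 - a - b : ℤ) : ℚ)) = 86400) :
    a.natAbs ≤ 700 := by
  by_contra h
  have hM : 701 ≤ a.natAbs := by omega
  have hN' : (1 : ℚ) + (a : ℚ) * a + (b : ℚ) * b +
      ((-1 - a - b : ℤ) : ℚ) * ((-1 - a - b : ℤ) : ℚ) ≤ N := by exact_mod_cast hN
  have bu := abs_div_le (k := 4) (by norm_num) (by norm_num) (cast_abs_ge hM)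
  have qu := cast_sq_ge hM
  push_cast at bu qu
  have n0 : (0 : ℚ) < N := by
    nlinarith [mul_self_nonneg (b : ℚ), mul_self_nonneg ((-1 - a - b : ℤ) : ℚ)]
  set L := 1 + 4 / (a : ℚ) + 4 / b + 25 / ((-1 - a - b : ℤ) : ℚ) with hLdef
  have hLpos : 0 < L := by nlinarith
  by_cases hc : 45 ≤ (-1 - a - b).natAbs
  · by_cases hb2 : 20 ≤ b.natAbs
    · have b2 := abs_div_le (k := 4) (by norm_num) (by norm_num) (cast_abs_ge hb2)
      have bc := abs_div_le (k := 25) (by norm_num) (by norm_num) (cast_abs_ge hc)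
      push_cast at b2 bc
      have : (47 / 200 : ℚ) ≤ L := by
        rw [hLdef]; push_cast; linarith [bc.1, bc.2, b2.1, b2.2, bu.1, bu.2]
      nlinarith [mul_self_nonneg (b : ℚ), mul_self_nonneg ((-1 - a - b : ℤ) : ℚ)]
    · have hcM : 681 ≤ (-1 - a - b).natAbs := by omega
      have bc := abs_div_le (k := 25) (by norm_num) (by norm_num) (cast_abs_ge hcM)
      push_cast at bc
      have gap : (1 + 4 / (b : ℚ)) ≤ -(1 / 2) ∨ (1 / 2 : ℚ) ≤ 1 + 4 / b := by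
        have l1 : -19 ≤ b := by omega
        have l2 : b ≤ 19 := by omega
        interval_cases b <;> first | omega | norm_num
      rcases gap with g | g
      · have : L ≤ 0 := by rw [hLdef]; push_cast; linarith [bc.1, bc.2, bu.1, bu.2]
        linarith
      · have : (2 / 5 : ℚ) ≤ L := by rw [hLdef]; push_cast; linarith [bc.1, bc.2, bu.1, bu.2]
        nlinarith [mul_self_nonneg (b : ℚ), mul_self_nonneg ((-1 - a - b : ℤ) : ℚ)]
  · have hb2 : 656 ≤ b.natAbs := by omega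
    have b2 := abs_div_le (k := 4) (by norm_num) (by norm_num) (cast_abs_ge hb2)
    have qb := cast_sq_ge hb2
    push_cast at b2 qb
    have gap : (1 + 25 / ((-1 - a - b : ℤ) : ℚ)) ≤ -(1 / 8) ∨
        (1 / 8 : ℚ) ≤ 1 + 25 / ((-1 - a - b : ℤ) : ℚ) := by
      obtain ⟨c, hcdef⟩ : ∃ c : ℤ, c = -1 - a - b := ⟨_, rfl⟩
      rw [← hcdef]
      have l1 : -44 ≤ c := by omega
      have l2 : c ≤ 44 := by omega
      interval_cases c <;> first | omega | norm_num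
    rcases gap with g | g
    · have : L ≤ 0 := by rw [hLdef]; push_cast at g ⊢; linarith [b2.1, b2.2, bu.1, bu.2]
      linarith
    · have : (113 / 1000 : ℚ) ≤ L := by
        rw [hLdef]; push_cast at g ⊢; linarith [b2.1, b2.2, bu.1, bu.2]
      nlinarith [mul_self_nonneg ((-1 - a - b : ℤ) : ℚ)]

theorem range_all {n : ℕ} {f : ℕ → Bool} (h : (List.range n).all f = true) {i : ℕ} (hi : i < n) :
    f i = true :=
  List.all_eq_true.1 h i (List.mem_range.2 hi)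

/-- The standard case. -/
theorem case11 {N : ℕ} {u u2 e e2 : ℤ} (hu : (8 : ℤ) ∣ u - 5) (hu2 : (8 : ℤ) ∣ u2 - 5)
    (he : (8 : ℤ) ∣ e - 5) (hsum : e + e2 = u + u2)
    (hu0 : 2 ≤ u.natAbs) (hu20 : 2 ≤ u2.natAbs) (he0 : 2 ≤ e.natAbs) (he20 : 2 ≤ e2.natAbs)
    (hs0 : 7 ≤ (u + u2 - 1).natAbs)
    (hmod : N % 240 = 120)
    (hN : (1 + (u + u2 - 1) * (u + u2 - 1) + u * u + u2 * u2 + e * e : ℤ) ≤ N)
    (h3 : (N : ℚ) * (1 + 1 / ((u + u2 - 1 : ℤ) : ℚ) - 25 / u - 25 / u2) = 86400)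
    (h5 : (N : ℚ) * (1 + 1 / ((u + u2 - 1 : ℤ) : ℚ) - 9 / e - 9 / e2) = 144000) :
    N = 175560 ∨ (N = 189000 ∧ u + u2 - 1 = -15 ∧
      ((u = 21 ∧ u2 = -35) ∨ (u = -35 ∧ u2 = 21))) := by
  have hN1 : (1 + (u + u2 - 1) * (u + u2 - 1) + u * u + u2 * u2 : ℤ) ≤ N := by
    nlinarith [mul_self_nonneg e]
  have b1 := bound11 hu hu2 hs0 hu0 hu20 hN1 h3
  have b2 := bound11 hu2 hu (by rwa [add_comm]) hu20 hu0 (by
      rw [add_comm u2 u]; linarith) (by rw [add_comm u2 u, ← h3]; ring)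
  set s := u + u2 - 1 with hs
  have n1 : (u : ℚ) ≠ 0 := Int.cast_ne_zero.2 (by omega)
  have n2 : (u2 : ℚ) ≠ 0 := Int.cast_ne_zero.2 (by omega)
  have n3 : (s : ℚ) ≠ 0 := Int.cast_ne_zero.2 (by omega)
  have n4 : (e : ℚ) ≠ 0 := Int.cast_ne_zero.2 (by omega)
  have n5 : (e2 : ℚ) ≠ 0 := Int.cast_ne_zero.2 (by omega)
  have i3 : (N : ℤ) * num11 u u2 = 86400 * den11 u u2 := by
    have : ((N : ℚ)) * ((u + u2) * u * u2 - 25 * s * (u + u2)) = 86400 * (s * u * u2) := by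
      field_simp at h3
      have e1 : (s : ℚ) + 1 = u + u2 := by rw [hs]; push_cast; ring
      linear_combination h3 - (N : ℚ) * u * u2 * e1
    rw [num11, den11, ← hs]
    exact_mod_cast this
  have i5 : (N : ℤ) * ((s + 1) * e * e2 - 9 * s * (s + 1)) = 144000 * s * e * e2 := by
    have : (N : ℚ) * ((s + 1) * e * e2 - 9 * s * (s + 1)) = 144000 * s * e * e2 := by
      field_simp at h5
      have e1 : (s : ℚ) + 1 = e + e2 := by
        rw [hs, show (e : ℚ) + e2 = ((e + e2 : ℤ) : ℚ) by push_cast; rfl, hsum]; push_cast; ring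
      linear_combination h5 - 9 * (N : ℚ) * s * e1
    exact_mod_cast this
  have hden : den11 u u2 ≠ 0 := by
    rw [den11, ← hs]; simp only [mul_ne_zero_iff]; omega
  have hnum : num11 u u2 ≠ 0 := fun h => by rw [h, mul_zero] at i3; omega
  obtain ⟨i, hi⟩ : ∃ i : ℕ, u = 8 * (i : ℤ) - 803 := ⟨((u + 803) / 8).toNat, by omega⟩
  obtain ⟨k, hk⟩ := (⟨((u2 + 803) / 8).toNat, by omega⟩ : ∃ k : ℕ, u2 = 8 * (k : ℤ) - 803)
  have hc := range_all (range_all checks11 (i := i) (by omega)) (i := k) (by omega)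
  rw [← hi, ← hk] at hc
  have hdiv : 86400 * den11 u u2 / num11 u u2 = N := by
    rw [← i3, Int.mul_ediv_cancel _ hnum]
  have hmod2 : (86400 * den11 u u2) % num11 u u2 = 0 := by
    rw [← i3]; exact Int.mul_emod_left _ _
  simp only [check11, hdiv, hmod2, ← hs] at hc
  simp [hden, hnum, hN1, show (N : ℤ) % 240 = 120 by omega] at hc
  obtain ⟨hle, hall⟩ := hc
  have hee : e * e ≤ N := by nlinarith [mul_self_nonneg s, mul_self_nonneg u, mul_self_nonneg u2]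
  obtain ⟨j, hj⟩ : ∃ j : ℕ, e = 8 * (j : ℤ) - 995 := ⟨((e + 995) / 8).toNat, by
    have : -996 < e ∧ e < 996 := ⟨by nlinarith, by nlinarith⟩
    omega⟩
  have h' := hall j (by nlinarith)
  rw [← hj, show s + 1 - e = e2 by omega] at h'
  simp [hee, i5, show e2 ≠ 0 by omega] at h'
  omega

/-- The two-two case. -/
theorem case8 {N : ℕ} {a b e e' g : ℤ} (ha : (8 : ℤ) ∣ a - 6) (hb : (8 : ℤ) ∣ b - 6)
    (he : (8 : ℤ) ∣ e - 5) (he' : e' = e + a - b) (hg : g = -(-1 - a - b) - e - a)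
    (ha0 : 2 ≤ a.natAbs) (hb0 : 2 ≤ b.natAbs) (he0 : 2 ≤ e.natAbs) (he'0 : 2 ≤ e'.natAbs)
    (hg0 : 2 ≤ g.natAbs) (hc0 : 2 ≤ (-1 - a - b).natAbs) (hmod : N % 240 = 120)
    (hN : (1 + a * a + b * b + (-1 - a - b) * (-1 - a - b) + e * e : ℤ) ≤ N)
    (h3 : (N : ℚ) * (1 + 4 / (a : ℚ) + 4 / b + 25 / ((-1 - a - b : ℤ) : ℚ)) = 86400)
    (h5 : (N : ℚ) * (2 - 72 / (g : ℚ) - 9 / e - 9 / e' + 4 / a + 4 / b) = 288000) :
    (a = -42 ∧ b = 6) ∨ (a = 6 ∧ b = -42) := by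
  have hN1 : (1 + a * a + b * b + (-1 - a - b) * (-1 - a - b) : ℤ) ≤ N := by
    nlinarith [mul_self_nonneg e]
  have b1 := bound8 ha hb hc0 hN1 h3
  have b2 := bound8 hb ha (by omega) (by
      rw [show -1 - b - a = -1 - a - b by ring]; linarith)
    (by rw [show -1 - b - a = -1 - a - b by ring, ← h3]; ring)
  obtain ⟨c, hc'⟩ : ∃ c : ℤ, c = -1 - a - b := ⟨_, rfl⟩
  rw [← hc'] at h3
  have n1 : (a : ℚ) ≠ 0 := Int.cast_ne_zero.2 (by omega)
  have n2 : (b : ℚ) ≠ 0 := Int.cast_ne_zero.2 (by omega)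
  have n3 : (c : ℚ) ≠ 0 := Int.cast_ne_zero.2 (by omega)
  have n4 : (e : ℚ) ≠ 0 := Int.cast_ne_zero.2 (by omega)
  have n5 : (e' : ℚ) ≠ 0 := Int.cast_ne_zero.2 (by omega)
  have n6 : (g : ℚ) ≠ 0 := Int.cast_ne_zero.2 (by omega)
  have i3 : (N : ℤ) * num8 a b = 86400 * den8 a b := by
    have : ((N : ℚ)) * (a * b * c + 4 * c * (a + b) + 25 * (a * b)) = 86400 * (a * b * c) := by
      field_simp at h3
      linear_combination h3
    rw [num8, den8, ← hc']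
    exact_mod_cast this
  have i5 : five8 N a b e e' g = true := by
    rw [five8, beq_iff_eq]
    have : (N : ℚ) * (2 * g * e * e' * a * b - 72 * e * e' * a * b - 9 * g * e' * a * b -
        9 * g * e * a * b + 4 * g * e * e' * b + 4 * g * e * e' * a) =
        288000 * g * e * e' * a * b := by
      field_simp at h5
      linear_combination h5
    exact_mod_cast this
  have hden : den8 a b ≠ 0 := by
    rw [den8]; simp only [mul_ne_zero_iff]; omega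
  have hnum : num8 a b ≠ 0 := fun h => by rw [h, mul_zero] at i3; omega
  obtain ⟨i, hi⟩ : ∃ i : ℕ, a = 8 * (i : ℤ) - 698 := ⟨((a + 698) / 8).toNat, by omega⟩
  obtain ⟨k, hk⟩ : ∃ k : ℕ, b = 8 * (k : ℤ) - 698 := ⟨((b + 698) / 8).toNat, by omega⟩
  have hc := range_all (range_all checks8 (i := i) (by omega)) (i := k) (by omega)
  rw [← hi, ← hk] at hc
  have hdiv : 86400 * den8 a b / num8 a b = N := by
    rw [← i3, Int.mul_ediv_cancel _ hnum]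
  have hmod2 : (86400 * den8 a b) % num8 a b = 0 := by
    rw [← i3]; exact Int.mul_emod_left _ _
  simp only [check8, hdiv, hmod2] at hc
  simp [hden, hnum, hN1, show (N : ℤ) % 240 = 120 by omega] at hc
  obtain ⟨hle, hall⟩ := hc
  have hee : e * e ≤ N := by
    nlinarith [mul_self_nonneg a, mul_self_nonneg b, mul_self_nonneg (-1 - a - b)]
  obtain ⟨j, hj⟩ : ∃ j : ℕ, e = 8 * (j : ℤ) - 5995 := ⟨((e + 5995) / 8).toNat, by
    have : -5996 < e ∧ e < 5996 := ⟨by nlinarith, by nlinarith⟩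
    omega⟩
  have h' := hall j (by nlinarith)
  rw [← hj, ← he', show b - (-1 - a) - e - a = g by omega] at h'
  simp [hee, i5, show e' ≠ 0 by omega, show g ≠ 0 by omega] at h'
  omega

/-- The exclusion by two-adic valuations. -/
theorem case4 {N : ℕ} {B e1 e2 : ℤ} (hB : (8 : ℤ) ∣ B - 7) (he : (8 : ℤ) ∣ e1 - 3)
    (hsum : e1 + e2 = 2 * B) (he20 : e2 ≠ 0) (hmod : N % 240 = 120)
    (h3 : (N : ℚ) * (1 + 1 / ((-1 - 2 * B : ℤ) : ℚ) + 48 / (B : ℚ) + 25 / e1 + 25 / e2) = 86400) :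
    False := by
  have n1 : (B : ℚ) ≠ 0 := Int.cast_ne_zero.2 (by omega)
  have n2 : (e1 : ℚ) ≠ 0 := Int.cast_ne_zero.2 (by omega)
  have n3 : (e2 : ℚ) ≠ 0 := Int.cast_ne_zero.2 he20
  obtain ⟨s, hs⟩ : ∃ s : ℤ, s = -1 - 2 * B := ⟨_, rfl⟩
  have n4 : (s : ℚ) ≠ 0 := Int.cast_ne_zero.2 (by omega)
  rw [← hs] at h3
  obtain ⟨p, hp⟩ : ∃ p : ℤ, p = e1 * e2 := ⟨_, rfl⟩
  have key : (N : ℤ) * (s * B * p + B * p + 48 * s * p + 50 * s * B * B) = 86400 * (s * B * p) := by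
    have : (N : ℚ) * (s * B * p + B * p + 48 * s * p + 50 * s * B * B) = 86400 * (s * B * p) := by
      have e : (e1 : ℚ) + e2 = 2 * B := by exact_mod_cast hsum
      rw [hp]
      push_cast
      field_simp at h3
      linear_combination h3 - 25 * (N : ℚ) * s * B * e
    exact_mod_cast this
  obtain ⟨b, hb⟩ : ∃ b, B = 8 * b + 7 := ⟨(B - 7) / 8, by omega⟩
  obtain ⟨j, hj⟩ : ∃ j, e1 = 8 * j + 3 := ⟨(e1 - 3) / 8, by omega⟩
  have h32 : ((32 : ℕ) : ℤ) ∣ s * B * p + B * p + 48 * s * p + 50 * s * B * B := by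
    rw [← ZMod.intCast_zmod_eq_zero_iff_dvd, hs, hp, show e2 = 2 * B - e1 by omega, hb, hj]
    have := two_adic (b : ZMod 32) (j : ZMod 32)
    simp only at this
    push_cast
    rw [← this]
  obtain ⟨q, hq⟩ := h32
  obtain ⟨m, hm⟩ : ∃ m : ℤ, (N : ℤ) = 8 * m := ⟨N / 8, by omega⟩
  rw [hq, hm] at key
  push_cast at key
  have hodd : (s * B * p) % 2 = 1 := by
    have h1 : s % 2 = 1 := by omega
    have h2 : B % 2 = 1 := by omega
    have h3' : p % 2 = 1 := by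
      rw [hp, Int.mul_emod, show e1 % 2 = 1 by omega, show e2 % 2 = 1 by omega]; rfl
    rw [Int.mul_emod, Int.mul_emod s, h1, h2, h3']; rfl
  generalize hw : s * B * p = w at key hodd
  have : 256 * (m * q) = 86400 * w := by linear_combination key
  omega

/-- The exclusion by parity. -/
theorem case2 {N : ℕ} {B : ℤ} (hB : (8 : ℤ) ∣ B - 1) (hB0 : 2 ≤ B.natAbs) (hmod : N % 240 = 120)
    (h3 : (N : ℚ) * (1 + 1 / ((2 * B - 1 : ℤ) : ℚ) - 2 / (B : ℚ)) = 86400) : False := by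
  have n1 : (B : ℚ) ≠ 0 := Int.cast_ne_zero.2 (by omega)
  obtain ⟨s, hs⟩ : ∃ s : ℤ, s = 2 * B - 1 := ⟨_, rfl⟩
  have n2 : (s : ℚ) ≠ 0 := Int.cast_ne_zero.2 (by omega)
  rw [← hs] at h3
  obtain ⟨k, hk⟩ : ∃ k, B = 8 * k + 1 := ⟨(B - 1) / 8, by omega⟩
  have key : (N : ℤ) * (2 * (B - 1) * (B - 1)) = 86400 * (s * B) := by
    have : (N : ℚ) * (2 * (B - 1) * (B - 1)) = 86400 * (s * B) := by
      have e : (s : ℚ) = 2 * B - 1 := by rw [hs]; push_cast; ring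
      field_simp at h3
      rw [e] at h3 ⊢
      linear_combination h3
    exact_mod_cast this
  rw [hk, hs, hk] at key
  obtain ⟨m, hm⟩ : ∃ m : ℤ, (N : ℤ) = 2 * m := ⟨N / 2, by omega⟩
  rw [hm] at key
  have : 256 * (m * k * k) = 2 * (86400 * (64 * k * k + 12 * k) + 43200) := by
    linear_combination key
  omega

/-- The order from the rows. -/
theorem card_eq {N : ℕ} {rs : Multiset Row} (h : RowData N rs) : N = 175560 := by
  obtain ⟨l, hl, e⟩ := mem_sols (m := rs.map Row.v) (by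
    intro v hv
    obtain ⟨r, hr, rfl⟩ := Multiset.mem_map.1 hv
    exact h.normal r hr) h.gram
  obtain ⟨L, hLl, rfl⟩ := exists_list_map Row.v l rs e.symm
  have dX := h.dX; have dP := h.dP; have dQ := h.dQ; have dR := h.dR
  have eX := h.eX; have eP := h.eP; have eQ := h.eQ
  have h3 := h.three; have h5 := h.five; have hsk := h.skew; have hb := h.bound
  simp only [Multiset.map_coe, Multiset.sum_coe] at dX dP dQ dR eX eP eQ h3 h5 hsk hb
  have hdeg : ∀ r ∈ L, 2 ≤ r.D.natAbs ∧ r.D ∣ (N : ℤ) ∧ (8 : ℤ) ∣ r.D + 7 * r.v.f0 :=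
    fun r hr => h.degree r (Multiset.mem_coe.2 hr)
  have hfeas : ∀ r ∈ L, r.feas := fun r hr => h.feas r (Multiset.mem_coe.2 hr)
  simp only [sols, List.mem_cons, List.not_mem_nil, or_false] at hl
  rcases hl with rfl | rfl | rfl | rfl | rfl | rfl | rfl | rfl | rfl | rfl | rfl
  all_goals
    simp only [List.map_eq_cons_iff, List.map_eq_nil_iff] at hLl
  -- 1
  · obtain ⟨⟨_, A, _⟩, L, rfl, rfl, ⟨_, B, _⟩, L, rfl, rfl, ⟨_, g, _⟩, L, rfl, rfl,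
      ⟨_, h', _⟩, L, rfl, rfl, ⟨_, s, _⟩, L, rfl, rfl, rfl⟩ := hLl
    simp [Vec.f0] at dP dQ hdeg
    omega
  -- 2
  · obtain ⟨⟨_, A, _⟩, L, rfl, rfl, ⟨_, B, _⟩, L, rfl, rfl, ⟨_, e1, _⟩, L, rfl, rfl,
      ⟨_, e2, _⟩, L, rfl, rfl, ⟨_, f1, _⟩, L, rfl, rfl, ⟨_, f2, _⟩, L, rfl, rfl,
      ⟨_, s, _⟩, L, rfl, rfl, rfl⟩ := hLl
    simp [Vec.f0, Vec.f1] at dX dP dQ dR h3 hdeg
    obtain rfl : A = -B := by omega
    obtain rfl : s = 2 * B - 1 := by omega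
    refine absurd (case2 (B := B) (by omega) (by omega) h.mod240 ?_) id
    rw [← h3]; push_cast; ring
  -- 3
  · obtain ⟨⟨_, A, _⟩, L, rfl, rfl, ⟨_, B, _⟩, L, rfl, rfl, ⟨_, g, _⟩, L, rfl, rfl,
      ⟨_, h', _⟩, L, rfl, rfl, ⟨_, s, _⟩, L, rfl, rfl, rfl⟩ := hLl
    simp [Vec.f0] at dP dQ dR hdeg
    omega
  -- 4
  · obtain ⟨⟨_, A, _⟩, L, rfl, rfl, ⟨_, B, _⟩, L, rfl, rfl, ⟨_, e1, _⟩, L, rfl, rfl,
      ⟨_, e2, _⟩, L, rfl, rfl, ⟨_, f1, _⟩, L, rfl, rfl, ⟨_, f2, _⟩, L, rfl, rfl,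
      ⟨_, s, _⟩, L, rfl, rfl, rfl⟩ := hLl
    simp [Vec.f0, Vec.f1] at dX dP dQ dR h3 hdeg
    obtain rfl : A = -B := by omega
    obtain rfl : s = -1 - 2 * B := by omega
    refine absurd (case4 (B := B) (e1 := e1) (e2 := e2) (by omega) (by omega) (by omega) (by omega)
      h.mod240 ?_) id
    rw [← h3]; push_cast; ring
  -- 5
  · obtain ⟨⟨_, A, _⟩, L, rfl, rfl, ⟨_, B, _⟩, L, rfl, rfl, ⟨_, g, _⟩, L, rfl, rfl,
      ⟨_, h', _⟩, L, rfl, rfl, ⟨_, s, _⟩, L, rfl, rfl, rfl⟩ := hLl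
    simp [Vec.f0] at dP dQ dR hdeg
    omega
  -- 6
  · obtain ⟨⟨_, A, _⟩, L, rfl, rfl, ⟨_, B, _⟩, L, rfl, rfl, ⟨_, e1, _⟩, L, rfl, rfl,
      ⟨_, e2, _⟩, L, rfl, rfl, ⟨_, f1, _⟩, L, rfl, rfl, ⟨_, f2, _⟩, L, rfl, rfl,
      ⟨_, s, _⟩, L, rfl, rfl, rfl⟩ := hLl
    simp [Vec.f0, Vec.f1] at dX dP dQ dR h3 hdeg
    obtain rfl : A = -B := by omega
    obtain rfl : s = -1 - 2 * B := by omega
    refine absurd (case4 (B := B) (e1 := e1) (e2 := e2) (by omega) (by omega) (by omega) (by omega)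
      h.mod240 ?_) id
    rw [← h3]; push_cast; ring
  -- 7
  · obtain ⟨⟨_, R1, _⟩, L, rfl, rfl, ⟨_, R2, _⟩, L, rfl, rfl, ⟨_, g, _⟩, L, rfl, rfl,
      ⟨_, c1, _⟩, L, rfl, rfl, ⟨_, c2, _⟩, L, rfl, rfl, ⟨_, h', _⟩, L, rfl, rfl,
      ⟨_, s, _⟩, L, rfl, rfl, rfl⟩ := hLl
    simp [Vec.f0] at dP dQ hdeg
    omega
  -- 8
  · obtain ⟨⟨_, R1, ER1⟩, L, rfl, rfl, ⟨_, R2, ER2⟩, L, rfl, rfl, ⟨_, g, Eg⟩, L, rfl, rfl,
      ⟨_, c, Ec⟩, L, rfl, rfl, ⟨_, e1, Ee⟩, L, rfl, rfl, ⟨_, a, Ea⟩, L, rfl, rfl,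
      ⟨_, e', Ee'⟩, L, rfl, rfl, ⟨_, b, Eb⟩, L, rfl, rfl, rfl⟩ := hLl
    simp [Vec.f0, Vec.f1, Vec.f23] at dX dP dQ dR h3 h5 hb hdeg
    obtain rfl : R2 = -R1 := by omega
    obtain rfl : c = -1 - a - b := by omega
    have hab := case8 (N := N) (a := a) (b := b) (e := e1) (e' := e') (g := g) (by omega) (by omega)
      (by omega) (by omega) (by omega) (by omega) (by omega) (by omega) (by omega) (by omega)
      (by omega) h.mod240 (by
        nlinarith [hb, mul_self_nonneg R1, mul_self_nonneg g, mul_self_nonneg e'])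
      (by rw [← h3]; push_cast; ring) (by rw [← h5]; push_cast; ring)
    have fa := hfeas ⟨⟨0, 1, 0, 0⟩, a, Ea⟩ (by simp)
    have fb := hfeas ⟨⟨0, 0, 1, 0⟩, b, Eb⟩ (by simp)
    rcases hab with ⟨rfl, rfl⟩ | ⟨rfl, rfl⟩
    · simp [Row.feas, Vec.f0, Vec.f1, Vec.f23] at fb
      exact (feas6 fb).elim
    · simp [Row.feas, Vec.f0, Vec.f1, Vec.f23] at fa
      exact (feas6 fa).elim
  -- 9
  · obtain ⟨⟨_, R1, _⟩, L, rfl, rfl, ⟨_, R2, _⟩, L, rfl, rfl, ⟨_, g, _⟩, L, rfl, rfl,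
      ⟨_, c1, _⟩, L, rfl, rfl, ⟨_, c2, _⟩, L, rfl, rfl, ⟨_, h', _⟩, L, rfl, rfl,
      ⟨_, s, _⟩, L, rfl, rfl, rfl⟩ := hLl
    simp [Vec.f0] at dP dQ hdeg
    omega
  -- 10
  · obtain ⟨⟨_, R1, _⟩, L, rfl, rfl, ⟨_, R2, _⟩, L, rfl, rfl, ⟨_, g, _⟩, L, rfl, rfl,
      ⟨_, c1, _⟩, L, rfl, rfl, ⟨_, c2, _⟩, L, rfl, rfl, ⟨_, h', _⟩, L, rfl, rfl,
      ⟨_, s, _⟩, L, rfl, rfl, rfl⟩ := hLl
    simp [Vec.f0] at dP dQ hdeg
    omega
  -- 11
  · obtain ⟨⟨_, R1, ER1⟩, L, rfl, rfl, ⟨_, R2, ER2⟩, L, rfl, rfl, ⟨_, c1, Ec1⟩, L, rfl, rfl,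
      ⟨_, c2, Ec2⟩, L, rfl, rfl, ⟨_, e1, Ee1⟩, L, rfl, rfl, ⟨_, e2, Ee2⟩, L, rfl, rfl,
      ⟨_, f1, Ef1⟩, L, rfl, rfl, ⟨_, f2, Ef2⟩, L, rfl, rfl, ⟨_, s, Es⟩, L, rfl, rfl, rfl⟩ := hLl
    simp [Vec.f0, Vec.f1, Vec.f23] at dX dP dQ dR eX eP eQ h3 h5 hsk hb hdeg
    obtain rfl : R2 = -R1 := by omega
    obtain rfl : s = -c1 + -c2 - 1 := by omega
    have hc := case11 (N := N) (u := -c1) (u2 := -c2) (e := e1) (e2 := e2) (by omega) (by omega)
      (by omega) (by omega) (by omega) (by omega) (by omega) (by omega) (by omega) h.mod240 (by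
        nlinarith [hb, mul_self_nonneg R1, mul_self_nonneg e2, mul_self_nonneg f1,
          mul_self_nonneg f2])
      (by rw [← h3]; push_cast; ring)
      (by
        push_cast at h5 hsk ⊢
        linear_combination (1 / 2 : ℚ) * h5 - (1 / 2 : ℚ) * (N : ℚ) * hsk)
    rcases hc with hc | ⟨-, hs, hu⟩
    · exact hc
    exfalso
    have fs := hfeas ⟨⟨1, 0, 0, 0⟩, -c1 + -c2 - 1, Es⟩ (by simp)
    have f1' := hfeas ⟨⟨-1, 1, 1, 0⟩, c1, Ec1⟩ (by simp)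
    have f2' := hfeas ⟨⟨-1, 1, 1, 0⟩, c2, Ec2⟩ (by simp)
    rw [hs] at fs
    simp [Row.feas, Vec.f0, Vec.f1, Vec.f23] at fs
    have := feas15 fs
    rcases hu with ⟨hu1, hu2⟩ | ⟨hu1, hu2⟩
    · obtain rfl : c1 = -21 := by omega
      obtain rfl : c2 = 35 := by omega
      simp [Row.feas, Vec.f0, Vec.f1, Vec.f23] at f1' f2'
      have := feas21 f1'; have := feas35 f2'
      omega
    · obtain rfl : c1 = 35 := by omega
      obtain rfl : c2 = -21 := by omega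
      simp [Row.feas, Vec.f0, Vec.f1, Vec.f23] at f1' f2'
      have := feas35 f1'; have := feas21 f2'
      omega

end CfsgLib.J1Order
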