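import Cfsg.Agent.Lib.J1Order.Setup

/-!
# Finite checks in `2 × A₅`
-/

set_option autoImplicit false
set_option maxRecDepth 100000
set_option synthInstance.maxSize 4000
set_option synthInstance.maxHeartbeats 400000

namespace CfsgLib.J1Order

open Finset

/-- Representatives of the classes of odd order. -/
def oddRep : Fin 4 → A5 := ![1, cc, aa, aa ^ 2]

/-- The element `t x`. -/
def mK (x : A5) : K5 := zK * (1, x)

theorem oddRep_pow : ∀ i : Fin 4, mK (oddRep i) ^ 15 = zK ∧ ((1, oddRep i) : K5) ^ 15 = 1 := by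
  decide +kernel

theorem card_conj_K5 : ∀ i j : Fin 4,
    (univ.filter fun k : K5 => mK (oddRep i) * k = k * mK (oddRep j)).card =
      if i = j then ![120, 6, 10, 10] i else 0 := by
  decide +kernel

theorem real_K5 : ∀ i : Fin 4,
    (univ.filter fun k : K5 => k * mK (oddRep i) = (mK (oddRep i))⁻¹ * k).Nonempty := by
  decide +kernel

theorem real_A5 : ∀ i : Fin 4,
    (univ.filter fun k : K5 => k * (1, oddRep i) = (1, oddRep i)⁻¹ * k).Nonempty := by
  decide +kernel

theorem card_inverters : ∀ i : Fin 4,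
    (univ.filter fun k : K5 => k * k = 1 ∧ k ≠ 1 ∧ k * mK (oddRep i) * (k * mK (oddRep i)) = 1 ∧
      k * mK (oddRep i) ≠ 1).card = ![30, 6, 10, 10] i := by
  decide +kernel

end CfsgLib.J1Order
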