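import Cfsg.Agent.Lib.J1Order.Values
import Mathlib.RingTheory.RootsOfUnity.Complex

/-!
# Integral coordinates of the values on the section
-/

set_option autoImplicit false
set_option maxRecDepth 100000
set_option synthInstance.maxSize 4000
set_option synthInstance.maxHeartbeats 400000

namespace CfsgLib.J1Order

open Cfsg CfsgLib.CharTheory Finset
open scoped ComplexConjugate

/-- A fifth root of unity. -/
noncomputable def ze : ℂ := Complex.exp (2 * Real.pi * Complex.I / 5)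

/-- A third root of unity. -/
noncomputable def om : ℂ := Complex.exp (2 * Real.pi * Complex.I / 3)

theorem ze_prim : IsPrimitiveRoot ze 5 := by
  simpa [ze] using Complex.isPrimitiveRoot_exp 5 (by norm_num)

theorem om_prim : IsPrimitiveRoot om 3 := by
  simpa [om] using Complex.isPrimitiveRoot_exp 3 (by norm_num)

/-- The larger root of `x² = x + 1`, up to Galois conjugation. -/
noncomputable def al : ℂ := -(ze ^ 2 + ze ^ 3)

/-- The other root. -/
noncomputable def be : ℂ := -(ze + ze ^ 4)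

theorem ze_sum : 1 + ze + ze ^ 2 + ze ^ 3 + ze ^ 4 = 0 := by
  have := ze_prim.geom_sum_eq_zero (by norm_num)
  simp [Finset.sum_range_succ] at this
  linear_combination this

theorem al_add_be : al + be = 1 := by
  rw [al, be]; linear_combination -ze_sum

theorem al_mul_be : al * be = -1 := by
  rw [al, be]
  have h5 : ze ^ 5 = 1 := ze_prim.pow_eq_one
  linear_combination ze_sum + (ze + ze ^ 2) * h5

theorem be_sq : be * be = be + 1 := by
  have := al_add_be; have := al_mul_be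
  linear_combination be * al_add_be - al_mul_be

theorem al_sub_be_sq : (al - be) ^ 2 = 5 := by
  linear_combination (al + be + 1) * al_add_be - 4 * al_mul_be

/-- No rational number is a root of `x² = x + 1`. -/
theorem int_ne (a b : ℤ) (h : (a : ℂ) = b * be) : b = 0 := by
  by_contra hb
  have h2 : (a : ℂ) * a = b * a + b * b := by
    calc (a : ℂ) * a = b * b * (be * be) := by rw [h]; ring
      _ = _ := by rw [be_sq, h]; ring
  have h3 : a * a = b * a + b * b := by exact_mod_cast h2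
  have h5 : IsSquare (5 : ℚ) := ⟨(2 * a - b) / b, by
    have hb' : (b : ℚ) ≠ 0 := Int.cast_ne_zero.2 hb
    have : ((2 * a - b : ℤ) : ℚ) * (2 * a - b : ℤ) = 5 * b * b := by
      have : (2 * a - b) * (2 * a - b) = 5 * b * b := by linear_combination 4 * h3
      exact_mod_cast this
    field_simp
    push_cast at this
    linear_combination -this⟩
  revert h5
  rw [show (5 : ℚ) = ((5 : ℕ) : ℚ) from rfl, Rat.isSquare_natCast_iff]
  rintro ⟨r, hr⟩
  have : r < 3 := by nlinarith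
  interval_cases r <;> omega

theorem mK_pows : mK aa ^ 5 = zK ∧ mK aa ^ 7 = mK (aa ^ 2) ∧ mK aa ^ 9 = (mK aa)⁻¹ ∧
    mK aa ^ 3 = (mK (aa ^ 2))⁻¹ ∧ mK aa ^ 10 = 1 ∧ mK cc ^ 3 = zK ∧ mK cc ^ 5 = (mK cc)⁻¹ ∧
    mK cc ^ 6 = 1 := by
  decide +kernel

variable {G : Type*} [Group G] [Fintype G]

/-- A sum of powers of roots of unity, grouped. -/
theorem sum_pow_grouped {ι : Type} [Fintype ι] {n : ℕ} {z : ℂ} (e : ι → ℤ) (j : ι → Fin n) (k : ℕ) :
    ∑ i, (e i : ℂ) * (z ^ (j i : ℕ)) ^ k =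
      ∑ m : Fin n, ((∑ i ∈ univ.filter (fun i => j i = m), e i : ℤ) : ℂ) * (z ^ (m : ℕ)) ^ k := by
  rw [← sum_fiberwise univ j]
  refine sum_congr rfl fun m _ => ?_
  push_cast
  rw [sum_mul]
  exact sum_congr rfl fun i hi => by rw [(mem_filter.1 hi).2]

/-- The values at odd powers of an element of order `2 n`. -/
theorem exists_odd_pow (χ : IrrCharacter G) (g : G) (n : ℕ) (hn : Odd n) (hg : g ^ (2 * n) = 1)
    {z : ℂ} (hz : IsPrimitiveRoot z n) :
    ∃ c : Fin n → ℤ, ∀ k : ℕ, Odd k →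
      (χ : G → ℂ) (g ^ k) = ∑ m : Fin n, (c m : ℂ) * (z ^ (m : ℕ)) ^ k := by
  classical
  obtain ⟨d, ρ, -, hρ⟩ := χ.2
  obtain ⟨ι, hι, b, μ, -, hμ, -, hchar⟩ := exists_eigenbasis ρ g
  obtain ⟨r, hr⟩ := orderOf_dvd_of_pow_eq_one hg
  have hμn : ∀ i, μ i ^ (2 * n) = 1 := fun i => by rw [hr, pow_mul, hμ, one_pow]
  have hn0 : n ≠ 0 := fun h => by rw [h] at hn; simp at hn
  haveI : NeZero n := ⟨hn0⟩
  have hω : ∀ i, ∃ m : Fin n, z ^ (m : ℕ) = μ i ^ (n + 1) := fun i => by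
    obtain ⟨l, hl⟩ := hn
    have : (μ i ^ (n + 1)) ^ n = 1 := by
      rw [← pow_mul, show (n + 1) * n = 2 * n * (l + 1) by subst hl; ring, pow_mul, hμn, one_pow]
    obtain ⟨m, hm, e⟩ := hz.eq_pow_of_pow_eq_one this
    exact ⟨⟨m, hm⟩, e⟩
  choose j hj using hω
  have he : ∀ i, ∃ e : ℤ, (e : ℂ) = μ i ^ n ∧ (e = 1 ∨ e = -1) := fun i => by
    have : μ i ^ n * μ i ^ n = 1 := by rw [← pow_add, ← two_mul, hμn]
    rcases mul_self_eq_one_iff.1 this with h | h
    · exact ⟨1, by simp [h], Or.inl rfl⟩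
    · exact ⟨-1, by simp [h], Or.inr rfl⟩
  choose e he1 he2 using he
  refine ⟨fun m => ∑ i ∈ univ.filter (fun i => j i = m), e i, fun k hk => ?_⟩
  have hc : (χ : G → ℂ) (g ^ k) = ρ.character (g ^ k) := by rw [hρ]
  rw [hc, hchar, ← sum_pow_grouped]
  refine sum_congr rfl fun i _ => ?_
  obtain ⟨l, rfl⟩ := hk
  rw [hj, he1, ← pow_mul, ← pow_add,
    show n + (n + 1) * (2 * l + 1) = 2 * n * (l + 1) + (2 * l + 1) by ring,
    pow_add (μ i) (2 * n * (l + 1)), pow_mul (μ i) (2 * n), hμn, one_pow, one_mul]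

/-- Integral coordinates of a character on the section. -/
structure Vec where
  /-- The coordinate at the trivial character. -/
  X : ℤ
  /-- A coordinate at the characters of degree three. -/
  P : ℤ
  /-- A coordinate at the characters of degree three. -/
  Q : ℤ
  /-- The coordinate at the character of degree four. -/
  R : ℤ
  deriving DecidableEq

namespace Vec

/-- The value at `t`. -/
def f0 (v : Vec) : ℤ := v.X - 2 * v.P - 2 * v.Q + 4 * v.R
/-- The value at `t x`, `x` of order three. -/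
def f1 (v : Vec) : ℤ := v.X + v.P + v.Q + v.R
/-- The sum of the values at the two classes of `t x`, `x` of order five. -/
def f23 (v : Vec) : ℤ := 2 * v.X + v.P + v.Q - 2 * v.R

end Vec

theorem exists_vec (H : J1Hyp G) (χ : IrrCharacter G) :
    ∃ v : Vec, H.fv χ 0 = (v.f0 : ℂ) ∧ H.fv χ 1 = (v.f1 : ℂ) ∧
      H.fv χ 2 = v.X + al * v.P + be * v.Q - v.R ∧
      H.fv χ 3 = v.X + be * v.P + al * v.Q - v.R := by
  obtain ⟨p5, p7, p9, p3, p10, q3, q5, q6⟩ := mK_pows
  obtain ⟨c, hc⟩ := exists_odd_pow χ (H.φ (mK aa)) 5 (by decide)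
    (by rw [← map_pow, show (2 * 5) = 10 from rfl, p10, map_one]) ze_prim
  obtain ⟨k, hk⟩ := exists_odd_pow χ (H.φ (mK cc)) 3 (by decide)
    (by rw [← map_pow, show (2 * 3) = 6 from rfl, q6, map_one]) om_prim
  have h5 : ze ^ 5 = 1 := ze_prim.pow_eq_one
  have h3 : om ^ 3 = 1 := om_prim.pow_eq_one
  have hz : H.fv χ 0 = (χ : G → ℂ) (H.φ zK) := by rw [J1Hyp.fv_zero]; rfl
  have a1 := hc 1 (by decide)
  have a5 := hc 5 (by decide)
  have a7 := hc 7 (by decide)
  have a9 := hc 9 (by decide)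
  rw [← map_pow, pow_one] at a1
  rw [← map_pow, p5, ← hz] at a5
  rw [← map_pow, p7] at a7
  rw [← map_pow, p9, map_inv, ← BrauerCharacters.conj_apply] at a9
  have b1 := hk 1 (by decide)
  have b3 := hk 3 (by decide)
  have b5 := hk 5 (by decide)
  rw [← map_pow, pow_one] at b1
  rw [← map_pow, q3, ← hz] at b3
  rw [← map_pow, q5, map_inv, ← BrauerCharacters.conj_apply] at b5
  have e2 : H.fv χ 2 = (χ : G → ℂ) (H.φ (mK aa)) := rfl
  have e3 : H.fv χ 3 = (χ : G → ℂ) (H.φ (mK (aa ^ 2))) := rfl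
  have e1 : H.fv χ 1 = (χ : G → ℂ) (H.φ (mK cc)) := rfl
  rw [← e2] at a1 a9
  rw [← e3] at a7
  rw [← e1] at b1 b5
  rw [J1Hyp.conj_fv] at a9 b5
  simp only [Fin.sum_univ_five] at a1 a5 a7 a9
  simp only [Fin.sum_univ_three] at b1 b3 b5
  norm_num at a1 a5 a7 a9 b1 b3 b5
  simp only [← pow_mul] at a1 a5 a7 a9 b1 b3 b5
  norm_num at a1 a5 a7 a9 b1 b3 b5
  -- symmetric coefficients
  have hsym : c 2 = c 3 ∧ c 1 = c 4 := by
    have h0 : ze - ze ^ 4 ≠ 0 := fun h => by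
      have h4 : ze ^ 1 = ze ^ 4 := by rw [pow_one]; linear_combination h
      exact absurd (ze_prim.pow_inj (by norm_num) (by norm_num) h4) (by norm_num)
    have key : (ze - ze ^ 4) * (((c 1 - c 4 : ℤ) : ℂ) - ((c 2 - c 3 : ℤ) : ℂ) * be) = 0 := by
      rw [be]
      push_cast
      linear_combination a9 - a1 + ((c 1 : ℂ) * ze ^ 4 + c 2 * (ze ^ 13 + ze ^ 8 + ze ^ 3) +
        c 3 * (ze ^ 22 + ze ^ 17 + ze ^ 12 + ze ^ 7 + ze ^ 2) +
        c 4 * (ze ^ 31 + ze ^ 26 + ze ^ 21 + ze ^ 16 + ze ^ 11 + ze ^ 6 + ze) +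
        ((c 2 : ℂ) - c 3) * (-ze ^ 3)) * h5
    have h23 : c 2 - c 3 = 0 := int_ne (c 1 - c 4) (c 2 - c 3) (by
      rcases mul_eq_zero.1 key with h | h
      · exact absurd h h0
      · linear_combination h)
    refine ⟨by omega, ?_⟩
    rcases mul_eq_zero.1 key with h | h
    · exact absurd h h0
    · rw [h23] at h
      push_cast at h
      have : (c 1 : ℂ) = c 4 := by linear_combination h
      exact_mod_cast this
  have hk12 : k 1 = k 2 := by
    have h0 : om - om ^ 2 ≠ 0 := fun h => by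
      have h4 : om ^ 1 = om ^ 2 := by rw [pow_one]; linear_combination h
      exact absurd (om_prim.pow_inj (by norm_num) (by norm_num) h4) (by norm_num)
    have : (om - om ^ 2) * ((k 1 : ℂ) - k 2) = 0 := by
      linear_combination b5 - b1 + ((k 1 : ℂ) * om ^ 2 + k 2 * (om ^ 7 + om ^ 4 + om)) * h3
    rcases mul_eq_zero.1 this with h | h
    · exact absurd h h0
    · exact_mod_cast sub_eq_zero.1 h
  obtain ⟨hs2, hs1⟩ := hsym
  set C := c 1 + c 2 with hC
  have hsum : c 0 + 2 * C = k 0 + 2 * k 1 := by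
    have : ((c 0 + 2 * C : ℤ) : ℂ) = ((k 0 + 2 * k 1 : ℤ) : ℂ) := by
      push_cast [hC]
      have e : (c 3 : ℂ) = c 2 := by rw [hs2]
      have e' : (c 4 : ℂ) = c 1 := by rw [hs1]
      have e'' : (k 2 : ℂ) = k 1 := by rw [hk12]
      linear_combination b3 - a5 + (c 1 : ℂ) * (1 : ℂ) * (0 : ℂ) - e - e' + e'' -
        ((c 1 : ℂ) + c 2 * (ze ^ 5 + 1) + c 3 * (ze ^ 10 + ze ^ 5 + 1) +
          c 4 * (ze ^ 15 + ze ^ 10 + ze ^ 5 + 1)) * h5 +
        ((k 1 : ℂ) + k 2 * (om ^ 3 + 1)) * h3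
    exact_mod_cast this
  have hal : al = -(ze ^ 2 + ze ^ 3) := rfl
  have hbe : be = -(ze + ze ^ 4) := rfl
  have e : (c 3 : ℂ) = c 2 := by rw [hs2]
  have e' : (c 4 : ℂ) = c 1 := by rw [hs1]
  have ek : (k 2 : ℂ) = k 1 := by rw [hk12]
  have hs : (c 0 : ℂ) + 2 * (c 1 + c 2) = k 0 + 2 * k 1 := by
    have : ((c 0 + 2 * C : ℤ) : ℂ) = ((k 0 + 2 * k 1 : ℤ) : ℂ) := by rw [hsum]
    push_cast [hC] at this
    exact this
  refine ⟨⟨c 0, C - k 1 - c 2, C - k 1 - c 1, C - k 1⟩, ?_, ?_, ?_, ?_⟩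
  · simp only [Vec.f0, hC]
    push_cast
    linear_combination a5 + e + e' + ((c 1 : ℂ) + c 2 * (ze ^ 5 + 1) +
      c 3 * (ze ^ 10 + ze ^ 5 + 1) + c 4 * (ze ^ 15 + ze ^ 10 + ze ^ 5 + 1)) * h5
  · simp only [Vec.f1, hC]
    push_cast
    have h0 : 1 + om + om ^ 2 = 0 := by
      have := om_prim.geom_sum_eq_zero (by norm_num)
      simp [Finset.sum_range_succ] at this
      linear_combination this
    linear_combination b1 - hs + om ^ 2 * ek + (k 1 : ℂ) * h0
  · simp only [hC]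
    push_cast
    linear_combination a1 + ze ^ 3 * e + ze ^ 4 * e' - ((c 1 : ℂ) + c 2 - k 1) * al_add_be +
      (c 2 : ℂ) * hal +
      (c 1 : ℂ) * hbe
  · simp only [hC]
    push_cast
    linear_combination a7 + ze * e + ze ^ 3 * e' - ((c 1 : ℂ) + c 2 - k 1) * al_add_be +
      (c 2 : ℂ) * hbe +
      (c 1 : ℂ) * hal +
      ((c 1 : ℂ) * ze ^ 2 + c 2 * (ze ^ 9 + ze ^ 4) + c 3 * (ze ^ 16 + ze ^ 11 + ze ^ 6 + ze) +
        c 4 * (ze ^ 23 + ze ^ 18 + ze ^ 13 + ze ^ 8 + ze ^ 3)) * h5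

end CfsgLib.J1Order
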