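import Cfsg.Agent.Lib.J1Order.Coords

/-!
# The possible coordinate vectors

The coordinate vectors of the non-trivial characters have a prescribed Gram matrix; up to signs
there are eleven multisets of such vectors.
-/

set_option autoImplicit false
set_option maxRecDepth 100000

namespace CfsgLib.J1Order

/-- A symmetric `4 × 4` integer matrix. -/
structure Gm where
  /-- entry -/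
  xx : ℤ
  /-- entry -/
  pp : ℤ
  /-- entry -/
  qq : ℤ
  /-- entry -/
  rr : ℤ
  /-- entry -/
  xp : ℤ
  /-- entry -/
  xq : ℤ
  /-- entry -/
  xr : ℤ
  /-- entry -/
  pq : ℤ
  /-- entry -/
  pr : ℤ
  /-- entry -/
  qr : ℤ
  deriving DecidableEq

/-- Subtraction of a rank one matrix. -/
def Gm.minus (r : Gm) (v : Vec) : Gm :=
  ⟨r.xx - v.X * v.X, r.pp - v.P * v.P, r.qq - v.Q * v.Q, r.rr - v.R * v.R, r.xp - v.X * v.P,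
    r.xq - v.X * v.Q, r.xr - v.X * v.R, r.pq - v.P * v.Q, r.pr - v.P * v.R, r.qr - v.Q * v.R⟩

/-- The Cauchy–Schwarz conditions. -/
def Gm.ok (r : Gm) : Bool :=
  0 ≤ r.xx && 0 ≤ r.pp && 0 ≤ r.qq && 0 ≤ r.rr && r.xp * r.xp ≤ r.xx * r.pp &&
    r.xq * r.xq ≤ r.xx * r.qq && r.xr * r.xr ≤ r.xx * r.rr && r.pq * r.pq ≤ r.pp * r.qq &&
    r.pr * r.pr ≤ r.pp * r.rr && r.qr * r.qr ≤ r.qq * r.rr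

/-- The zero matrix. -/
def Gm.zero : Gm := ⟨0, 0, 0, 0, 0, 0, 0, 0, 0, 0⟩

/-- The Gram matrix of a multiset of vectors. -/
def gsum (m : Multiset Vec) : Gm :=
  ⟨(m.map fun v => v.X * v.X).sum, (m.map fun v => v.P * v.P).sum, (m.map fun v => v.Q * v.Q).sum,
    (m.map fun v => v.R * v.R).sum, (m.map fun v => v.X * v.P).sum, (m.map fun v => v.X * v.Q).sum,
    (m.map fun v => v.X * v.R).sum, (m.map fun v => v.P * v.Q).sum, (m.map fun v => v.P * v.R).sum,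
    (m.map fun v => v.Q * v.R).sum⟩

/-- All multisets of candidates with a given Gram matrix, as lists. -/
def search : ℕ → List Vec → Gm → List (List Vec)
  | 0, _, r => if r = Gm.zero then [[]] else []
  | n + 1, L, r =>
    if r = Gm.zero then [[]] else
      ((L.filter fun v => (r.minus v).ok).tails).flatMap fun s =>
        match s with
        | [] => []
        | v :: T => (search n (v :: T) (r.minus v)).map (v :: ·)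

theorem sum_sq_mul_le (m : Multiset Vec) (a b : Vec → ℤ) :
    0 ≤ (m.map fun v => a v * a v).sum ∧
      ((m.map fun v => a v * b v).sum) * ((m.map fun v => a v * b v).sum) ≤
        (m.map fun v => a v * a v).sum * (m.map fun v => b v * b v).sum := by
  induction m using Multiset.induction with
  | empty => simp
  | cons v m ih =>
    simp only [Multiset.map_cons, Multiset.sum_cons]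
    set A := (m.map fun v => a v * a v).sum with hA
    set B := (m.map fun v => b v * b v).sum with hB
    set c := (m.map fun v => a v * b v).sum with hc
    have hBn : 0 ≤ B := Multiset.sum_nonneg fun x hx => by
      obtain ⟨w, -, rfl⟩ := Multiset.mem_map.1 hx
      exact mul_self_nonneg _
    refine ⟨add_nonneg (mul_self_nonneg _) ih.1, ?_⟩
    have key : 2 * a v * b v * c ≤ a v * a v * B + b v * b v * A := by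
      have h0 : 0 ≤ a v * a v * B + b v * b v * A :=
        add_nonneg (mul_nonneg (mul_self_nonneg _) hBn) (mul_nonneg (mul_self_nonneg _) ih.1)
      refine (abs_le_of_sq_le_sq' ?_ h0).2
      nlinarith [sq_nonneg (a v * a v * B - b v * b v * A),
        mul_le_mul_of_nonneg_left ih.2 (mul_self_nonneg (2 * a v * b v))]
    nlinarith

theorem ok_gsum (m : Multiset Vec) : (gsum m).ok = true := by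
  have d := fun a : Vec → ℤ => (sum_sq_mul_le m a a).1
  have o := fun a b : Vec → ℤ => (sum_sq_mul_le m a b).2
  simp only [Gm.ok, gsum, Bool.and_eq_true, decide_eq_true_iff]
  refine ⟨⟨⟨⟨⟨⟨⟨⟨⟨?_, ?_⟩, ?_⟩, ?_⟩, ?_⟩, ?_⟩, ?_⟩, ?_⟩, ?_⟩, ?_⟩
  all_goals refine decide_eq_true ?_
  all_goals first
    | exact d _
    | exact o _ _

theorem gsum_cons (v : Vec) (m : Multiset Vec) : (gsum (v ::ₘ m)).minus v = gsum m := by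
  simp [gsum, Gm.minus]

theorem sq_total_pos {v : Vec} (hv : v ≠ ⟨0, 0, 0, 0⟩) :
    0 < v.X * v.X + v.P * v.P + v.Q * v.Q + v.R * v.R := by
  by_contra h
  push Not at h
  have := mul_self_nonneg v.X; have := mul_self_nonneg v.P
  have := mul_self_nonneg v.Q; have := mul_self_nonneg v.R
  obtain ⟨X, P, Q, R⟩ := v
  simp only at *
  apply hv
  rw [mul_self_eq_zero.1 (by linarith : X * X = 0), mul_self_eq_zero.1 (by linarith : P * P = 0),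
    mul_self_eq_zero.1 (by linarith : Q * Q = 0), mul_self_eq_zero.1 (by linarith : R * R = 0)]

theorem card_le_trace (m : Multiset Vec) (h : ∀ v ∈ m, v ≠ ⟨0, 0, 0, 0⟩) :
    (m.card : ℤ) ≤ (gsum m).xx + (gsum m).pp + (gsum m).qq + (gsum m).rr := by
  induction m using Multiset.induction with
  | empty => simp [gsum]
  | cons v m ih =>
    have h1 := sq_total_pos (h v (Multiset.mem_cons_self v m))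
    have h2 := ih fun w hw => h w (Multiset.mem_cons_of_mem hw)
    simp only [gsum, Multiset.map_cons, Multiset.sum_cons, Multiset.card_cons] at h2 ⊢
    push_cast
    linarith

/-- Completeness of the search. -/
theorem mem_search : ∀ (n : ℕ) (L : List Vec) (m : Multiset Vec),
    (∀ v ∈ m, v ∈ L ∧ v ≠ ⟨0, 0, 0, 0⟩) → m.card ≤ n →
      ∃ l ∈ search n L (gsum m), (l : Multiset Vec) = m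
  | 0, L, m, _, hn => by
    rw [Multiset.card_eq_zero.1 (Nat.le_zero.1 hn)]
    exact ⟨[], by simp [search, gsum, Gm.zero], rfl⟩
  | n + 1, L, m, h, hn => by
    by_cases hz : gsum m = Gm.zero
    · have := card_le_trace m fun v hv => (h v hv).2
      rw [hz] at this
      simp only [Gm.zero] at this
      rw [Multiset.card_eq_zero.1 (show m.card = 0 by omega)]
      exact ⟨[], by simp [search, gsum, Gm.zero], rfl⟩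
    · have hne : m ≠ 0 := fun e => hz (by rw [e]; rfl)
      set F := L.filter fun v => ((gsum m).minus v).ok with hF
      have hmF : ∀ v ∈ m, v ∈ F := fun v hv => by
        obtain ⟨m', rfl⟩ := Multiset.exists_cons_of_mem hv
        rw [hF, List.mem_filter, gsum_cons]
        exact ⟨(h v hv).1, ok_gsum m'⟩
      obtain ⟨s, hs, v, T, rfl, hv, hT⟩ : ∃ s ∈ F.tails, ∃ v T, s = v :: T ∧ v ∈ m ∧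
          ∀ w ∈ m, w ∈ v :: T := by
        clear_value F
        clear hF
        induction F with
        | nil =>
          obtain ⟨v, hv⟩ := Multiset.exists_mem_of_ne_zero hne
          exact absurd (hmF v hv) List.not_mem_nil
        | cons a F ih =>
          by_cases ha : a ∈ m
          · exact ⟨a :: F, List.mem_tails _ _ |>.2 List.suffix_rfl, a, F, rfl, ha, hmF⟩
          · obtain ⟨s, hs, v, T, e, hv, hT⟩ := ih fun w hw =>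
              ((List.mem_cons.1 (hmF w hw)).resolve_left fun e => ha (e ▸ hw))
            exact ⟨s, (List.mem_tails _ _).2 (((List.mem_tails _ _).1 hs).trans
              (List.suffix_cons a F)), v, T, e, hv, hT⟩
      obtain ⟨m', rfl⟩ := Multiset.exists_cons_of_mem hv
      obtain ⟨l, hl, e⟩ := mem_search n (v :: T) m'
        (fun w hw => ⟨hT w (Multiset.mem_cons_of_mem hw), (h w (Multiset.mem_cons_of_mem hw)).2⟩)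
        (by rw [Multiset.card_cons] at hn; omega)
      refine ⟨v :: l, ?_, by rw [← Multiset.cons_coe, e]⟩
      rw [search, if_neg hz, List.mem_flatMap]
      exact ⟨v :: T, hs, List.mem_map.2 ⟨l, by rwa [gsum_cons], rfl⟩⟩

/-- The Gram matrix of the non-trivial characters. -/
def gram0 : Gm := ⟨7, 4, 4, 2, -4, -4, 0, 2, 0, 0⟩

/-- The normalised candidates. -/
def cands : List Vec :=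
 [
  ⟨-2, -2, -2, 1⟩, ⟨-2, -2, -1, 1⟩, ⟨-2, -2, 1, 1⟩, ⟨-2, -2, 2, 1⟩, ⟨-2, -1, -2, 1⟩, ⟨-2, -1, -1, 1⟩,
  ⟨-2, -1, 1, 1⟩, ⟨-2, -1, 2, 1⟩, ⟨-2, 1, -2, 1⟩, ⟨-2, 1, -1, 1⟩, ⟨-2, 1, 1, 1⟩, ⟨-2, 1, 2, 1⟩,
  ⟨-2, 2, -2, 1⟩, ⟨-2, 2, -1, 1⟩, ⟨-2, 2, 1, 1⟩, ⟨-2, 2, 2, 1⟩, ⟨-1, -2, -2, 1⟩, ⟨-1, -2, -1, 1⟩,
  ⟨-1, -2, 1, 1⟩, ⟨-1, -2, 2, 1⟩, ⟨-1, -1, -2, 1⟩, ⟨-1, -1, -1, 1⟩, ⟨-1, -1, 1, 1⟩, ⟨-1, -1, 2, 1⟩,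
  ⟨-1, 1, -2, 1⟩, ⟨-1, 1, -1, 1⟩, ⟨-1, 1, 1, 1⟩, ⟨-1, 1, 2, 1⟩, ⟨-1, 2, -2, 1⟩, ⟨-1, 2, -1, 1⟩,
  ⟨-1, 2, 1, 1⟩, ⟨-1, 2, 2, 1⟩, ⟨0, -2, -2, 1⟩, ⟨0, -2, -1, 1⟩, ⟨0, -2, 1, 1⟩, ⟨0, -2, 2, 1⟩,
  ⟨0, -1, -2, 1⟩, ⟨0, -1, -1, 1⟩, ⟨0, -1, 1, 1⟩, ⟨0, -1, 2, 1⟩, ⟨0, 1, -2, 1⟩, ⟨0, 1, -1, 1⟩,
  ⟨0, 1, 1, 1⟩, ⟨0, 1, 2, 1⟩, ⟨0, 2, -2, 1⟩, ⟨0, 2, -1, 1⟩, ⟨0, 2, 1, 1⟩, ⟨0, 2, 2, 1⟩,
  ⟨1, -2, -2, 1⟩, ⟨1, -2, -1, 1⟩, ⟨1, -2, 1, 1⟩, ⟨1, -2, 2, 1⟩, ⟨1, -1, -2, 1⟩, ⟨1, -1, -1, 1⟩,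
  ⟨1, -1, 1, 1⟩, ⟨1, -1, 2, 1⟩, ⟨1, 1, -2, 1⟩, ⟨1, 1, -1, 1⟩, ⟨1, 1, 1, 1⟩, ⟨1, 1, 2, 1⟩,
  ⟨1, 2, -2, 1⟩, ⟨1, 2, -1, 1⟩, ⟨1, 2, 1, 1⟩, ⟨1, 2, 2, 1⟩, ⟨2, -2, -2, 1⟩, ⟨2, -2, -1, 1⟩,
  ⟨2, -2, 1, 1⟩, ⟨2, -2, 2, 1⟩, ⟨2, -1, -2, 1⟩, ⟨2, -1, -1, 1⟩, ⟨2, -1, 1, 1⟩, ⟨2, -1, 2, 1⟩,
  ⟨2, 1, -2, 1⟩, ⟨2, 1, -1, 1⟩, ⟨2, 1, 1, 1⟩, ⟨2, 1, 2, 1⟩, ⟨2, 2, -2, 1⟩, ⟨2, 2, -1, 1⟩,
  ⟨2, 2, 1, 1⟩, ⟨2, 2, 2, 1⟩, ⟨-2, -2, 0, 1⟩, ⟨-2, -1, 0, 1⟩, ⟨-2, 1, 0, 1⟩, ⟨-2, 2, 0, 1⟩,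
  ⟨-1, -2, 0, 1⟩, ⟨-1, -1, 0, 1⟩, ⟨-1, 1, 0, 1⟩, ⟨-1, 2, 0, 1⟩, ⟨0, -2, 0, 1⟩, ⟨0, -1, 0, 1⟩,
  ⟨0, 1, 0, 1⟩, ⟨0, 2, 0, 1⟩, ⟨1, -2, 0, 1⟩, ⟨1, -1, 0, 1⟩, ⟨1, 1, 0, 1⟩, ⟨1, 2, 0, 1⟩,
  ⟨2, -2, 0, 1⟩, ⟨2, -1, 0, 1⟩, ⟨2, 1, 0, 1⟩, ⟨2, 2, 0, 1⟩, ⟨-2, 0, -2, 1⟩, ⟨-2, 0, -1, 1⟩,
  ⟨-2, 0, 1, 1⟩, ⟨-2, 0, 2, 1⟩, ⟨-1, 0, -2, 1⟩, ⟨-1, 0, -1, 1⟩, ⟨-1, 0, 1, 1⟩, ⟨-1, 0, 2, 1⟩,
  ⟨0, 0, -2, 1⟩, ⟨0, 0, -1, 1⟩, ⟨0, 0, 1, 1⟩, ⟨0, 0, 2, 1⟩, ⟨1, 0, -2, 1⟩, ⟨1, 0, -1, 1⟩,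
  ⟨1, 0, 1, 1⟩, ⟨1, 0, 2, 1⟩, ⟨2, 0, -2, 1⟩, ⟨2, 0, -1, 1⟩, ⟨2, 0, 1, 1⟩, ⟨2, 0, 2, 1⟩,
  ⟨-2, 0, 0, 1⟩, ⟨-1, 0, 0, 1⟩, ⟨0, 0, 0, 1⟩, ⟨1, 0, 0, 1⟩, ⟨2, 0, 0, 1⟩, ⟨-2, 1, -2, 0⟩,
  ⟨-2, 1, -1, 0⟩, ⟨-2, 1, 1, 0⟩, ⟨-2, 1, 2, 0⟩, ⟨-2, 2, -2, 0⟩, ⟨-2, 2, -1, 0⟩, ⟨-2, 2, 1, 0⟩,
  ⟨-2, 2, 2, 0⟩, ⟨-1, 1, -2, 0⟩, ⟨-1, 1, -1, 0⟩, ⟨-1, 1, 1, 0⟩, ⟨-1, 1, 2, 0⟩, ⟨-1, 2, -2, 0⟩,
  ⟨-1, 2, -1, 0⟩, ⟨-1, 2, 1, 0⟩, ⟨-1, 2, 2, 0⟩, ⟨0, 1, -2, 0⟩, ⟨0, 1, -1, 0⟩, ⟨0, 1, 1, 0⟩,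
  ⟨0, 1, 2, 0⟩, ⟨0, 2, -2, 0⟩, ⟨0, 2, -1, 0⟩, ⟨0, 2, 1, 0⟩, ⟨0, 2, 2, 0⟩, ⟨1, 1, -2, 0⟩,
  ⟨1, 1, -1, 0⟩, ⟨1, 1, 1, 0⟩, ⟨1, 1, 2, 0⟩, ⟨1, 2, -2, 0⟩, ⟨1, 2, -1, 0⟩, ⟨1, 2, 1, 0⟩,
  ⟨1, 2, 2, 0⟩, ⟨2, 1, -2, 0⟩, ⟨2, 1, -1, 0⟩, ⟨2, 1, 1, 0⟩, ⟨2, 1, 2, 0⟩, ⟨2, 2, -2, 0⟩,
  ⟨2, 2, -1, 0⟩, ⟨2, 2, 1, 0⟩, ⟨2, 2, 2, 0⟩, ⟨-2, 1, 0, 0⟩, ⟨-2, 2, 0, 0⟩, ⟨-1, 1, 0, 0⟩,
  ⟨-1, 2, 0, 0⟩, ⟨0, 1, 0, 0⟩, ⟨0, 2, 0, 0⟩, ⟨1, 1, 0, 0⟩, ⟨1, 2, 0, 0⟩, ⟨2, 1, 0, 0⟩,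
  ⟨2, 2, 0, 0⟩, ⟨-2, 0, 1, 0⟩, ⟨-2, 0, 2, 0⟩, ⟨-1, 0, 1, 0⟩, ⟨-1, 0, 2, 0⟩, ⟨0, 0, 1, 0⟩,
  ⟨0, 0, 2, 0⟩, ⟨1, 0, 1, 0⟩, ⟨1, 0, 2, 0⟩, ⟨2, 0, 1, 0⟩, ⟨2, 0, 2, 0⟩, ⟨1, 0, 0, 0⟩,
  ⟨2, 0, 0, 0⟩]

/-- The eleven solutions. -/
def sols : List (List Vec) :=
 [
  [⟨-1, 1, 1, 1⟩, ⟨1, -1, -1, 1⟩, ⟨-2, 1, 1, 0⟩, ⟨0, 1, -1, 0⟩, ⟨1, 0, 0, 0⟩],
  [⟨-1, 1, 1, 1⟩, ⟨1, -1, -1, 1⟩, ⟨-1, 1, 0, 0⟩, ⟨-1, 1, 0, 0⟩, ⟨-1, 0, 1, 0⟩, ⟨-1, 0, 1, 0⟩, ⟨1, 0, 0, 0⟩],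
  [⟨-1, 1, 0, 1⟩, ⟨1, -1, 0, 1⟩, ⟨-2, 1, 2, 0⟩, ⟨0, 1, 0, 0⟩, ⟨1, 0, 0, 0⟩],
  [⟨-1, 1, 0, 1⟩, ⟨1, -1, 0, 1⟩, ⟨-1, 1, 1, 0⟩, ⟨-1, 1, 1, 0⟩, ⟨-1, 0, 1, 0⟩, ⟨-1, 0, 1, 0⟩, ⟨1, 0, 0, 0⟩],
  [⟨-1, 0, 1, 1⟩, ⟨1, 0, -1, 1⟩, ⟨-2, 2, 1, 0⟩, ⟨0, 0, 1, 0⟩, ⟨1, 0, 0, 0⟩],
  [⟨-1, 0, 1, 1⟩, ⟨1, 0, -1, 1⟩, ⟨-1, 1, 1, 0⟩, ⟨-1, 1, 1, 0⟩, ⟨-1, 1, 0, 0⟩, ⟨-1, 1, 0, 0⟩, ⟨1, 0, 0, 0⟩],
  [⟨0, 0, 0, 1⟩, ⟨0, 0, 0, 1⟩, ⟨-2, 1, 1, 0⟩, ⟨-1, 1, 1, 0⟩, ⟨-1, 1, 1, 0⟩, ⟨0, 1, -1, 0⟩, ⟨1, 0, 0, 0⟩],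
  [⟨0, 0, 0, 1⟩, ⟨0, 0, 0, 1⟩, ⟨-2, 1, 1, 0⟩, ⟨-1, 1, 1, 0⟩, ⟨-1, 1, 0, 0⟩, ⟨0, 1, 0, 0⟩, ⟨-1, 0, 1, 0⟩, ⟨0, 0, 1, 0⟩],
  [⟨0, 0, 0, 1⟩, ⟨0, 0, 0, 1⟩, ⟨-2, 1, 2, 0⟩, ⟨-1, 1, 0, 0⟩, ⟨-1, 1, 0, 0⟩, ⟨0, 1, 0, 0⟩, ⟨1, 0, 0, 0⟩],
  [⟨0, 0, 0, 1⟩, ⟨0, 0, 0, 1⟩, ⟨-2, 2, 1, 0⟩, ⟨-1, 0, 1, 0⟩, ⟨-1, 0, 1, 0⟩, ⟨0, 0, 1, 0⟩, ⟨1, 0, 0, 0⟩],
  [⟨0, 0, 0, 1⟩, ⟨0, 0, 0, 1⟩, ⟨-1, 1, 1, 0⟩, ⟨-1, 1, 1, 0⟩, ⟨-1, 1, 0, 0⟩, ⟨-1, 1, 0, 0⟩, ⟨-1, 0, 1, 0⟩, ⟨-1, 0, 1, 0⟩, ⟨1, 0, 0, 0⟩]]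

theorem search_gram0 : search 17 cands gram0 = sols := by
  decide +kernel

/-- Whether a vector is normalised: the first non-zero entry of `(R, P, Q, X)` is positive. -/
def Vec.normal (v : Vec) : Prop :=
  0 < v.R ∨ (v.R = 0 ∧ (0 < v.P ∨ (v.P = 0 ∧ (0 < v.Q ∨ (v.Q = 0 ∧ 0 < v.X)))))

instance : DecidablePred Vec.normal := fun _ => inferInstanceAs (Decidable (_ ∨ _))

theorem mem_cands : ∀ x ∈ Finset.Icc (-2 : ℤ) 2, ∀ p ∈ Finset.Icc (-2 : ℤ) 2,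
    ∀ q ∈ Finset.Icc (-2 : ℤ) 2, ∀ r ∈ Finset.Icc (-1 : ℤ) 1,
      (⟨x, p, q, r⟩ : Vec).normal → (⟨x, p, q, r⟩ : Vec) ∈ cands := by
  decide +kernel

/-- The normalised multisets with the Gram matrix of the non-trivial characters. -/
theorem mem_sols {m : Multiset Vec} (hn : ∀ v ∈ m, v.normal) (hg : gsum m = gram0) :
    ∃ l ∈ sols, (l : Multiset Vec) = m := by
  have hne : ∀ v ∈ m, v ≠ ⟨0, 0, 0, 0⟩ := fun v hv e => by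
    have := hn v hv
    rw [e] at this
    exact absurd this (by decide)
  have hc := card_le_trace m hne
  rw [hg] at hc
  simp only [gram0] at hc
  rw [← search_gram0, ← hg]
  refine mem_search 17 cands m (fun v hv => ⟨?_, hne v hv⟩) (by omega)
  have hb : ∀ a : Vec → ℤ, a v * a v ≤ (m.map fun w => a w * a w).sum := fun a => by
    obtain ⟨m', rfl⟩ := Multiset.exists_cons_of_mem hv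
    rw [Multiset.map_cons, Multiset.sum_cons]
    linarith [(sum_sq_mul_le m' a a).1]
  have b1 : v.X * v.X ≤ 7 := (hb _).trans_eq (congrArg Gm.xx hg)
  have b2 : v.P * v.P ≤ 4 := (hb _).trans_eq (congrArg Gm.pp hg)
  have b3 : v.Q * v.Q ≤ 4 := (hb _).trans_eq (congrArg Gm.qq hg)
  have b4 : v.R * v.R ≤ 2 := (hb _).trans_eq (congrArg Gm.rr hg)
  exact mem_cands v.X (Finset.mem_Icc.2 ⟨by nlinarith, by nlinarith⟩) v.P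
    (Finset.mem_Icc.2 ⟨by nlinarith, by nlinarith⟩) v.Q
    (Finset.mem_Icc.2 ⟨by nlinarith, by nlinarith⟩) v.R
    (Finset.mem_Icc.2 ⟨by nlinarith, by nlinarith⟩) (hn v hv)

end CfsgLib.J1Order
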