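import Cfsg.Agent.Lib.J1Order.Arith

/-!
# A simple group with an involution centralizer `2 × A₅` has order `175560`
-/

set_option autoImplicit false

namespace CfsgLib.J1Order

open Cfsg

variable {G : Type*} [Group G] [Finite G] [IsSimpleGroup G]

/-- The order, from the structure. -/
theorem J1Hyp.card_eq (H : J1Hyp G) : Nat.card G = 175560 := by
  haveI := Fintype.ofFinite G
  obtain ⟨rs, hrs⟩ := exists_rows H
  exact J1Order.card_eq hrs

/-- A simple group whose two-central involution has centralizer `2 × A₅` has order `175560`. -/
theorem card_eq_of_two_central {t : G} (ht : IsTwoCentralInvolution t)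
    (e : Subgroup.centralizer ({t} : Set G) ≃* K5) : Nat.card G = 175560 := by
  obtain ⟨h2, P, -, hP⟩ := ht
  obtain ⟨H, -⟩ := exists_hyp h2 (not_sixteen_dvd P hP e) e
  exact H.card_eq

end CfsgLib.J1Order
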