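import Cfsg.Agent.Lib.J1Order.Enum

/-!
# The signed rows of a group with an involution centralizer `2 × A₅`
-/

set_option autoImplicit false
set_option maxRecDepth 100000
set_option synthInstance.maxSize 4000
set_option synthInstance.maxHeartbeats 400000

namespace CfsgLib.J1Order

open Cfsg CfsgLib.CharTheory Finset
open scoped ComplexConjugate

/-- A signed character: coordinates, degree, and value at an element of order three of `A₅`. -/
structure Row where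
  /-- The coordinates. -/
  v : Vec
  /-- The signed degree. -/
  D : ℤ
  /-- The signed value at an element of order three. -/
  E : ℤ

/-- Negation of coordinates. -/
def Vec.neg (v : Vec) : Vec := ⟨-v.X, -v.P, -v.Q, -v.R⟩

/-- The restriction to `2 × A₅` of a character with degree `d`, values `f0, f1, f23` on the
section and value `g` at an element of order three is a character. -/
def Feas (d f0 f1 f23 g : ℤ) : Prop :=
  ∃ a1 a4 a5 am b1 b4 b5 bm : ℕ,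
    d = (a1 + 4 * a4 + 5 * a5 + 3 * am : ℤ) + (b1 + 4 * b4 + 5 * b5 + 3 * bm) ∧
    f0 = (a1 + 4 * a4 + 5 * a5 + 3 * am : ℤ) - (b1 + 4 * b4 + 5 * b5 + 3 * bm) ∧
    (a1 - am + a5 : ℤ) = f0 ∧ (b1 - bm + b5 : ℤ) = 0 ∧
    (a1 + a4 - a5 : ℤ) - (b1 + b4 - b5) = f1 ∧
    (2 * a1 - 2 * a4 + am : ℤ) - (2 * b1 - 2 * b4 + bm) = f23 ∧
    (a1 + a4 - a5 : ℤ) + (b1 + b4 - b5) = g

/-- Feasibility of a row. -/
def Row.feas (r : Row) : Prop :=
  (0 < r.D ∧ Feas r.D r.v.f0 r.v.f1 r.v.f23 r.E) ∨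
    (r.D < 0 ∧ Feas (-r.D) (-r.v.f0) (-r.v.f1) (-r.v.f23) (-r.E))

/-- Everything needed about the rows of a group of order `N`. -/
structure RowData (N : ℕ) (rs : Multiset Row) : Prop where
  gram : gsum (rs.map Row.v) = gram0
  normal : ∀ r ∈ rs, r.v.normal
  degree : ∀ r ∈ rs, 2 ≤ r.D.natAbs ∧ r.D ∣ (N : ℤ) ∧ (8 : ℤ) ∣ r.D + 7 * r.v.f0
  feas : ∀ r ∈ rs, r.feas
  dX : 1 + (rs.map fun r => r.D * r.v.X).sum = 0
  dP : (rs.map fun r => r.D * r.v.P).sum = 0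
  dQ : (rs.map fun r => r.D * r.v.Q).sum = 0
  dR : (rs.map fun r => r.D * r.v.R).sum = 0
  eX : 1 + (rs.map fun r => r.E * r.v.X).sum = 0
  eP : (rs.map fun r => r.E * r.v.P).sum = 0
  eQ : (rs.map fun r => r.E * r.v.Q).sum = 0
  eR : (rs.map fun r => r.E * r.v.R).sum = 0
  three : (N : ℚ) * (1 + (rs.map fun r => (r.v.f0 : ℚ) ^ 2 * r.v.f1 / r.D).sum) = 86400
  five : (N : ℚ) * (2 + (rs.map fun r => (r.v.f0 : ℚ) ^ 2 * r.v.f23 / r.D).sum) = 288000
  skew : (rs.map fun r => (r.v.f0 : ℚ) ^ 2 * (r.v.P - r.v.Q : ℤ) / r.D).sum = 0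
  bound : 1 + (rs.map fun r => r.D ^ 2).sum ≤ (N : ℤ)
  mod240 : N % 240 = 120

variable {G : Type*} [Group G] [Fintype G]

/-- Linear forms giving the coordinates. -/
theorem coord_forms (H : J1Hyp G) (χ : IrrCharacter G) (v : Vec)
    (h0 : H.fv χ 0 = (v.f0 : ℂ)) (h1 : H.fv χ 1 = (v.f1 : ℂ))
    (h2 : H.fv χ 2 = v.X + al * v.P + be * v.Q - v.R)
    (h3 : H.fv χ 3 = v.X + be * v.P + al * v.Q - v.R) :
    (v.X : ℂ) = 1 / 5 * H.fv χ 0 + 0 * H.fv χ 1 + 2 / 5 * H.fv χ 2 + 2 / 5 * H.fv χ 3 ∧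
    (v.P : ℂ) = -2 / 15 * H.fv χ 0 + 1 / 3 * H.fv χ 1 + (-1 + (al - be)) / 10 * H.fv χ 2 +
      (-1 - (al - be)) / 10 * H.fv χ 3 ∧
    (v.Q : ℂ) = -2 / 15 * H.fv χ 0 + 1 / 3 * H.fv χ 1 + (-1 - (al - be)) / 10 * H.fv χ 2 +
      (-1 + (al - be)) / 10 * H.fv χ 3 ∧
    (v.R : ℂ) = 1 / 15 * H.fv χ 0 + 1 / 3 * H.fv χ 1 + -1 / 5 * H.fv χ 2 + -1 / 5 * H.fv χ 3 := by
  rw [h0, h1, h2, h3]
  simp only [Vec.f0, Vec.f1]
  push_cast
  refine ⟨?_, ?_, ?_, ?_⟩
  · linear_combination (-(2 / 5 : ℂ) * (v.P + v.Q)) * al_add_be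
  · linear_combination ((v.P + v.Q : ℂ) / 10) * al_add_be +
      (-((v.P : ℂ) - v.Q) / 10) * al_sub_be_sq
  · linear_combination ((v.P + v.Q : ℂ) / 10) * al_add_be +
      (((v.P : ℂ) - v.Q) / 10) * al_sub_be_sq
  · linear_combination ((v.P + v.Q : ℂ) / 5) * al_add_be

/-- The rows exist. -/
theorem exists_rows [IsSimpleGroup G] (H : J1Hyp G) :
    ∃ rs : Multiset Row, RowData (Nat.card G) rs := by
  classical
  haveI := Fintype.ofFinite (IrrCharacter G)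
  choose v hv0 hv1 hv2 hv3 using exists_vec H
  have hf23 : ∀ χ, H.fv χ 2 + H.fv χ 3 = ((v χ).f23 : ℂ) := fun χ => by
    rw [hv2, hv3, Vec.f23]; push_cast
    linear_combination ((v χ).P + (v χ).Q : ℂ) * al_add_be
  set d : IrrCharacter G → ℤ := fun χ => (charDegree (χ : G → ℂ) : ℤ) with hd
  have hd1 : ∀ χ : IrrCharacter G, (χ : G → ℂ) 1 = (d χ : ℂ) := fun χ => by
    rw [(BrauerCharacters.charDegree_spec χ).1, hd]; simp
  have hdpos : ∀ χ, 0 < d χ := fun χ => by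
    simp only [hd]; exact_mod_cast (BrauerCharacters.charDegree_spec χ).2.1
  have hshape : ∀ χ, ∃ g : ℤ, H.gv χ 1 = (g : ℂ) ∧
      Feas (d χ) (v χ).f0 (v χ).f1 (v χ).f23 g := by
    intro χ
    obtain ⟨ha, hb⟩ := H.exists_parts χ
    obtain ⟨a1, a4, a5, am, A1, A2, A3, A4⟩ := exists_rational_shape ha
    obtain ⟨b1, b4, b5, bm, B1, B2, B3, B4⟩ := exists_rational_shape hb
    have eu : (χ : G → ℂ) (H.φ (1, uu)) = H.fv χ 0 ∧
        (χ : G → ℂ) (H.φ (mK uu)) = H.fv χ 0 := by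
      rw [J1Hyp.fv_zero]
      constructor <;>
      · refine (irr_apply_eq_of_isConj (H.one _ ?_) χ).symm
        rw [orderOf_injective H.φ H.inj]
        exact orderOf_eq_prime (p := 2) (by decide +kernel) (by decide +kernel)
    have e0 : mK (1 : A5) = mK (oddRep 0) := rfl
    have e1 : H.φ (1, (1 : A5)) = 1 := map_one H.φ
    simp only [e0, e1, eu.1, eu.2] at A1 A2 B1 B2
    rw [show (χ : G → ℂ) (H.φ (mK (oddRep 0))) = H.fv χ 0 from rfl, hd1, hv0] at A1 B1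
    rw [hv0] at A2 B2
    change (H.gv χ 1 + H.fv χ 1) / 2 = _ at A3
    change (H.gv χ 1 - H.fv χ 1) / 2 = _ at B3
    change (H.gv χ 2 + H.fv χ 2) / 2 + (H.gv χ 3 + H.fv χ 3) / 2 = _ at A4
    change (H.gv χ 2 - H.fv χ 2) / 2 + (H.gv χ 3 - H.fv χ 3) / 2 = _ at B4
    rw [hv1] at A3 B3
    push_cast at A1 B1
    refine ⟨(a1 + a4 - a5 : ℤ) + (b1 + b4 - b5), by push_cast; linear_combination A3 + B3,
      a1, a4, a5, am, b1, b4, b5, bm, ?_, ?_, ?_, ?_, ?_, ?_, rfl⟩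
    · have : ((d χ : ℤ) : ℂ) = (((a1 + 4 * a4 + 5 * a5 + 3 * am : ℤ) +
          (b1 + 4 * b4 + 5 * b5 + 3 * bm) : ℤ) : ℂ) := by push_cast; linear_combination A1 + B1
      exact_mod_cast this
    · have : (((v χ).f0 : ℤ) : ℂ) = (((a1 + 4 * a4 + 5 * a5 + 3 * am : ℤ) -
          (b1 + 4 * b4 + 5 * b5 + 3 * bm) : ℤ) : ℂ) := by push_cast; linear_combination A1 - B1
      exact_mod_cast this
    · have : ((a1 - am + a5 : ℤ) : ℂ) = (((v χ).f0 : ℤ) : ℂ) := by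
        push_cast; linear_combination -A2
      exact_mod_cast this
    · have : ((b1 - bm + b5 : ℤ) : ℂ) = ((0 : ℤ) : ℂ) := by push_cast; linear_combination -B2
      exact_mod_cast this
    · have : (((a1 + a4 - a5 : ℤ) - (b1 + b4 - b5) : ℤ) : ℂ) = (((v χ).f1 : ℤ) : ℂ) := by
        push_cast; linear_combination B3 - A3
      exact_mod_cast this
    · have : (((2 * a1 - 2 * a4 + am : ℤ) - (2 * b1 - 2 * b4 + bm) : ℤ) : ℂ) =
          (((v χ).f23 : ℤ) : ℂ) := by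
        rw [← hf23]; push_cast; linear_combination B4 - A4
      exact_mod_cast this
  choose g hg hfeas using hshape
  -- normalisation
  set s : IrrCharacter G → ℤ := fun χ => if (v χ).normal then 1 else -1 with hs
  have hss : ∀ χ, s χ * s χ = 1 := fun χ => by simp only [hs]; split_ifs <;> norm_num
  set row : IrrCharacter G → Row := fun χ =>
    ⟨if (v χ).normal then v χ else (v χ).neg, s χ * d χ, s χ * g χ⟩ with hrow
  have hX : ∀ χ, (row χ).v.X = s χ * (v χ).X ∧ (row χ).v.P = s χ * (v χ).P ∧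
      (row χ).v.Q = s χ * (v χ).Q ∧ (row χ).v.R = s χ * (v χ).R := fun χ => by
    simp only [hrow, hs]; split_ifs <;> simp [Vec.neg]
  have hff : ∀ χ, (row χ).v.f0 = s χ * (v χ).f0 ∧ (row χ).v.f1 = s χ * (v χ).f1 ∧
      (row χ).v.f23 = s χ * (v χ).f23 := fun χ => by
    obtain ⟨a, b, c, e⟩ := hX χ
    simp only [Vec.f0, Vec.f1, Vec.f23, a, b, c, e]
    exact ⟨by ring, by ring, by ring⟩
  set T : Finset (IrrCharacter G) :=
    (univ.erase (trivIrr G)).filter (fun χ => v χ ≠ ⟨0, 0, 0, 0⟩) with hT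
  -- the trivial character
  have ht : v (trivIrr G) = ⟨1, 0, 0, 0⟩ := by
    have t1 : ∀ i, H.fv (trivIrr G) i = 1 := fun i => trivIrr_apply _
    obtain ⟨a, b, c, e⟩ := coord_forms H _ _ (hv0 (trivIrr G)) (hv1 _) (hv2 _) (hv3 _)
    simp only [t1] at a b c e
    have a' : ((v (trivIrr G)).X : ℂ) = ((1 : ℤ) : ℂ) := by push_cast; linear_combination a
    have b' : ((v (trivIrr G)).P : ℂ) = ((0 : ℤ) : ℂ) := by push_cast; linear_combination b
    have c' : ((v (trivIrr G)).Q : ℂ) = ((0 : ℤ) : ℂ) := by push_cast; linear_combination c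
    have e' : ((v (trivIrr G)).R : ℂ) = ((0 : ℤ) : ℂ) := by push_cast; linear_combination e
    cases hh : v (trivIrr G)
    rw [hh] at a' b' c' e'
    simp only [Vec.mk.injEq]
    exact ⟨by exact_mod_cast a', by exact_mod_cast b', by exact_mod_cast c', by exact_mod_cast e'⟩
  have hsplit : ∀ {A : Type} [AddCommMonoid A] (F : IrrCharacter G → A),
      (∀ χ, v χ = ⟨0, 0, 0, 0⟩ → F χ = 0) →
      F (trivIrr G) + ∑ χ ∈ T, F χ = ∑ χ, F χ := fun F hF => by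
    rw [hT, sum_filter_of_ne (p := fun χ => v χ ≠ ⟨0, 0, 0, 0⟩) (fun χ _ h e => h (hF χ e)),
      add_sum_erase _ _ (mem_univ _)]
  have hlinear : ∀ w : IrrCharacter G → ℂ, (∀ i, ∑ χ, w χ * H.fv χ i = 0) →
      ∑ χ, w χ * ((v χ).X : ℂ) = 0 ∧ ∑ χ, w χ * ((v χ).P : ℂ) = 0 ∧
      ∑ χ, w χ * ((v χ).Q : ℂ) = 0 ∧ ∑ χ, w χ * ((v χ).R : ℂ) = 0 := by
    intro w hw
    have key : ∀ (x : IrrCharacter G → ℂ) (c0 c1 c2 c3 : ℂ),
        (∀ χ, x χ = c0 * H.fv χ 0 + c1 * H.fv χ 1 + c2 * H.fv χ 2 + c3 * H.fv χ 3) →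
        ∑ χ, w χ * x χ = 0 := fun x c0 c1 c2 c3 hx => by
      rw [sum_congr rfl (g := fun χ => c0 * (w χ * H.fv χ 0) + c1 * (w χ * H.fv χ 1) +
        c2 * (w χ * H.fv χ 2) + c3 * (w χ * H.fv χ 3)) fun χ _ => by rw [hx]; ring]
      simp only [sum_add_distrib, ← mul_sum, hw, mul_zero, add_zero]
    exact ⟨key _ _ _ _ _ fun χ => (coord_forms H χ _ (hv0 χ) (hv1 χ) (hv2 χ) (hv3 χ)).1,
      key _ _ _ _ _ fun χ => (coord_forms H χ _ (hv0 χ) (hv1 χ) (hv2 χ) (hv3 χ)).2.1,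
      key _ _ _ _ _ fun χ => (coord_forms H χ _ (hv0 χ) (hv1 χ) (hv2 χ) (hv3 χ)).2.2.1,
      key _ _ _ _ _ fun χ => (coord_forms H χ _ (hv0 χ) (hv1 χ) (hv2 χ) (hv3 χ)).2.2.2⟩
  obtain ⟨dX, dP, dQ, dR⟩ := hlinear (fun χ => (d χ : ℂ)) fun i => by
    simpa only [hd1] using H.sum_degree_fv i
  obtain ⟨eX, eP, eQ, eR⟩ := hlinear (fun χ => (g χ : ℂ)) fun i => by
    simpa only [hg] using H.sum_gv_fv 1 i
  -- the Gram matrix
  have hgram : ∀ (x y : IrrCharacter G → ℂ) (a0 a1 a2 a3 b0 b1 b2 b3 : ℂ),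
      (∀ χ, x χ = a0 * H.fv χ 0 + a1 * H.fv χ 1 + a2 * H.fv χ 2 + a3 * H.fv χ 3) →
      (∀ χ, y χ = b0 * H.fv χ 0 + b1 * H.fv χ 1 + b2 * H.fv χ 2 + b3 * H.fv χ 3) →
      ∑ χ, x χ * y χ = 120 * a0 * b0 + 6 * a1 * b1 + 10 * a2 * b2 + 10 * a3 * b3 := by
    intro x y a0 a1 a2 a3 b0 b1 b2 b3 hx hy
    rw [sum_congr rfl (g := fun χ => ∑ i : Fin 4, ∑ j : Fin 4,
      ![a0, a1, a2, a3] i * ![b0, b1, b2, b3] j * (H.fv χ i * H.fv χ j)) fun χ _ => by
        rw [hx, hy]; simp [Fin.sum_univ_four]; ring]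
    rw [sum_comm, sum_congr rfl (fun i _ => sum_comm)]
    simp only [← mul_sum, H.gram]
    simp [Fin.sum_univ_four]
    ring
  have hgr : ∀ (a b : Vec → ℤ) (c : ℤ),
      (∀ u, a (Vec.neg u) * b (Vec.neg u) = a u * b u) → a ⟨0, 0, 0, 0⟩ = 0 →
      a ⟨1, 0, 0, 0⟩ * b ⟨1, 0, 0, 0⟩ + c = ∑ χ, a (v χ) * b (v χ) →
      ((T.val.map row).map Row.v |>.map fun u => a u * b u).sum = c := by
    intro a b c hneg h0 hc
    rw [Multiset.map_map, Multiset.map_map]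
    show ∑ χ ∈ T, (a (row χ).v * b (row χ).v) = c
    rw [← hsplit (fun χ => a (v χ) * b (v χ)) (fun χ e => by simp [e, h0]), ht] at hc
    refine (sum_congr rfl fun χ _ => ?_).trans (add_left_cancel hc).symm
    simp only [hrow]
    split_ifs
    · rfl
    · exact hneg _
  have cf := fun χ => coord_forms H χ _ (hv0 χ) (hv1 χ) (hv2 χ) (hv3 χ)
  have hprod : ∀ (a b : Vec → ℤ) (c : ℤ) (a0 a1 a2 a3 b0 b1 b2 b3 : ℂ),
      (∀ χ, (a (v χ) : ℂ) = a0 * H.fv χ 0 + a1 * H.fv χ 1 + a2 * H.fv χ 2 + a3 * H.fv χ 3) →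
      (∀ χ, (b (v χ) : ℂ) = b0 * H.fv χ 0 + b1 * H.fv χ 1 + b2 * H.fv χ 2 + b3 * H.fv χ 3) →
      120 * a0 * b0 + 6 * a1 * b1 + 10 * a2 * b2 + 10 * a3 * b3 = (c : ℂ) →
      ∑ χ, a (v χ) * b (v χ) = c := fun a b c a0 a1 a2 a3 b0 b1 b2 b3 ha hb hc => by
    have := hgram _ _ _ _ _ _ _ _ _ _ ha hb
    rw [hc] at this
    exact_mod_cast this
  have nn : ∀ χ ∈ T, v χ ≠ ⟨0, 0, 0, 0⟩ := fun χ hχ => (mem_filter.1 hχ).2
  have hδ := al_sub_be_sq
  refine ⟨T.val.map row, ⟨?_, ?_, ?_, ?_, ?_, ?_, ?_, ?_, ?_, ?_, ?_, ?_, ?_, ?_, ?_, ?_, ?_⟩⟩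
  · simp only [gsum, gram0, Gm.mk.injEq]
    refine ⟨?_, ?_, ?_, ?_, ?_, ?_, ?_, ?_, ?_, ?_⟩
    · exact hgr Vec.X Vec.X 7 (fun u => by simp [Vec.neg]) rfl
        (hprod _ _ 8 _ _ _ _ _ _ _ _ (fun χ => (cf χ).1) (fun χ => (cf χ).1) (by norm_num)).symm
    · exact hgr Vec.P Vec.P 4 (fun u => by simp [Vec.neg]) rfl
        (hprod _ _ 4 _ _ _ _ _ _ _ _ (fun χ => (cf χ).2.1) (fun χ => (cf χ).2.1)
          (by push_cast; linear_combination (1 / 5 : ℂ) * hδ)).symm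
    · exact hgr Vec.Q Vec.Q 4 (fun u => by simp [Vec.neg]) rfl
        (hprod _ _ 4 _ _ _ _ _ _ _ _ (fun χ => (cf χ).2.2.1) (fun χ => (cf χ).2.2.1)
          (by push_cast; linear_combination (1 / 5 : ℂ) * hδ)).symm
    · exact hgr Vec.R Vec.R 2 (fun u => by simp [Vec.neg]) rfl
        (hprod _ _ 2 _ _ _ _ _ _ _ _ (fun χ => (cf χ).2.2.2) (fun χ => (cf χ).2.2.2)
          (by norm_num)).symm
    · exact hgr Vec.X Vec.P (-4) (fun u => by simp [Vec.neg]) rfl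
        (by
          rw [hprod Vec.X Vec.P (-4) _ _ _ _ _ _ _ _ (fun χ => (cf χ).1) (fun χ => (cf χ).2.1)
            (by push_cast; ring)]
          norm_num)
    · exact hgr Vec.X Vec.Q (-4) (fun u => by simp [Vec.neg]) rfl
        (by
          rw [hprod Vec.X Vec.Q (-4) _ _ _ _ _ _ _ _ (fun χ => (cf χ).1) (fun χ => (cf χ).2.2.1)
            (by push_cast; ring)]
          norm_num)
    · exact hgr Vec.X Vec.R 0 (fun u => by simp [Vec.neg]) rfl
        (hprod _ _ 0 _ _ _ _ _ _ _ _ (fun χ => (cf χ).1) (fun χ => (cf χ).2.2.2)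
          (by norm_num)).symm
    · exact hgr Vec.P Vec.Q 2 (fun u => by simp [Vec.neg]) rfl
        (hprod _ _ 2 _ _ _ _ _ _ _ _ (fun χ => (cf χ).2.1) (fun χ => (cf χ).2.2.1)
          (by push_cast; linear_combination (-1 / 5 : ℂ) * hδ)).symm
    · exact hgr Vec.P Vec.R 0 (fun u => by simp [Vec.neg]) rfl
        (hprod _ _ 0 _ _ _ _ _ _ _ _ (fun χ => (cf χ).2.1) (fun χ => (cf χ).2.2.2)
          (by push_cast; ring)).symm
    · exact hgr Vec.Q Vec.R 0 (fun u => by simp [Vec.neg]) rfl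
        (hprod _ _ 0 _ _ _ _ _ _ _ _ (fun χ => (cf χ).2.2.1) (fun χ => (cf χ).2.2.2)
          (by push_cast; ring)).symm
  · intro r hr
    obtain ⟨χ, hχ, rfl⟩ := Multiset.mem_map.1 hr
    have := nn χ hχ
    simp only [hrow]
    split_ifs with h
    · exact h
    · generalize hh : v χ = u at h this
      obtain ⟨X, P, Q, R⟩ := u
      simp only [Vec.normal, Vec.neg, ne_eq, Vec.mk.injEq] at h this ⊢
      omega
  · intro r hr
    obtain ⟨χ, hχ, rfl⟩ := Multiset.mem_map.1 hr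
    have hdv : d χ ∣ (Nat.card G : ℤ) := Int.natCast_dvd_natCast.2 (BrauerCharacters.charDegree_spec χ).2.2
    refine ⟨?_, ?_, ?_⟩
    · have h1 : d χ ≠ 1 := fun e => by
        replace hχ : χ ∈ T := hχ
        rw [hT, Finset.mem_filter, Finset.mem_erase] at hχ
        exact hχ.1.1 (J1Hyp.eq_triv_of_degree_one H χ (by rw [hd1, e, Int.cast_one]))
      have := hdpos χ
      simp only [hrow, hs]
      split_ifs <;> omega
    · simp only [hrow, hs]
      split_ifs <;> simpa using hdv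
    · rw [(hff χ).1]
      obtain ⟨m, hm⟩ := H.degree_add_seven χ
      rw [hv0] at hm
      have : d χ + 7 * (v χ).f0 = 8 * m := by
        have : ((d χ + 7 * (v χ).f0 : ℤ) : ℂ) = ((8 * m : ℤ) : ℂ) := by
          push_cast [hd]; exact hm
        exact_mod_cast this
      show (8 : ℤ) ∣ s χ * d χ + _
      exact ⟨s χ * m, by linear_combination s χ * this⟩
  · intro r hr
    obtain ⟨χ, hχ, rfl⟩ := Multiset.mem_map.1 hr
    obtain ⟨a, b, c⟩ := hff χ
    simp only [Row.feas, a, b, c]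
    have := hdpos χ
    simp only [hrow, hs]
    split_ifs
    · left; exact ⟨by linarith, by simpa using hfeas χ⟩
    · right; exact ⟨by linarith, by simpa using hfeas χ⟩
  all_goals try rw [Multiset.map_map]
  · have h := hsplit (fun χ => (d χ : ℂ) * ((v χ).X : ℂ)) (fun χ e => by simp [e])
    rw [dX, ht] at h
    have : d (trivIrr G) = 1 := by
      have := hd1 (trivIrr G); rw [trivIrr_apply] at this; exact_mod_cast this.symm
    rw [this] at h
    have e : ∀ χ, (row χ).D * (row χ).v.X = d χ * (v χ).X := fun χ => by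
      rw [(hX χ).1]; show s χ * d χ * _ = _; linear_combination (d χ * (v χ).X) * hss χ
    show 1 + ∑ χ ∈ T, _ = 0
    simp only [Function.comp, e]
    have h' : ((1 + ∑ χ ∈ T, d χ * (v χ).X : ℤ) : ℂ) = ((0 : ℤ) : ℂ) := by
      push_cast; simpa using h
    exact_mod_cast h'
  · have h := hsplit (fun χ => (d χ : ℂ) * ((v χ).P : ℂ)) (fun χ e => by simp [e])
    rw [dP, ht] at h
    have e : ∀ χ, (row χ).D * (row χ).v.P = d χ * (v χ).P := fun χ => by
      rw [(hX χ).2.1]; show s χ * d χ * _ = _; linear_combination (d χ * (v χ).P) * hss χ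
    show ∑ χ ∈ T, _ = 0
    simp only [Function.comp, e]
    have h' : ((∑ χ ∈ T, d χ * (v χ).P : ℤ) : ℂ) = ((0 : ℤ) : ℂ) := by
      push_cast; simpa using h
    exact_mod_cast h'
  · have h := hsplit (fun χ => (d χ : ℂ) * ((v χ).Q : ℂ)) (fun χ e => by simp [e])
    rw [dQ, ht] at h
    have e : ∀ χ, (row χ).D * (row χ).v.Q = d χ * (v χ).Q := fun χ => by
      rw [(hX χ).2.2.1]; show s χ * d χ * _ = _; linear_combination (d χ * (v χ).Q) * hss χ
    show ∑ χ ∈ T, _ = 0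
    simp only [Function.comp, e]
    have h' : ((∑ χ ∈ T, d χ * (v χ).Q : ℤ) : ℂ) = ((0 : ℤ) : ℂ) := by
      push_cast; simpa using h
    exact_mod_cast h'
  · have h := hsplit (fun χ => (d χ : ℂ) * ((v χ).R : ℂ)) (fun χ e => by simp [e])
    rw [dR, ht] at h
    have e : ∀ χ, (row χ).D * (row χ).v.R = d χ * (v χ).R := fun χ => by
      rw [(hX χ).2.2.2]; show s χ * d χ * _ = _; linear_combination (d χ * (v χ).R) * hss χ
    show ∑ χ ∈ T, _ = 0
    simp only [Function.comp, e]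
    have h' : ((∑ χ ∈ T, d χ * (v χ).R : ℤ) : ℂ) = ((0 : ℤ) : ℂ) := by
      push_cast; simpa using h
    exact_mod_cast h'
  · have h := hsplit (fun χ => (g χ : ℂ) * ((v χ).X : ℂ)) (fun χ e => by simp [e])
    rw [eX, ht] at h
    have : g (trivIrr G) = 1 := by
      have := hg (trivIrr G); rw [J1Hyp.gv, trivIrr_apply] at this; exact_mod_cast this.symm
    rw [this] at h
    have e : ∀ χ, (row χ).E * (row χ).v.X = g χ * (v χ).X := fun χ => by
      rw [(hX χ).1]; show s χ * g χ * _ = _; linear_combination (g χ * (v χ).X) * hss χ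
    show 1 + ∑ χ ∈ T, _ = 0
    simp only [Function.comp, e]
    have h' : ((1 + ∑ χ ∈ T, g χ * (v χ).X : ℤ) : ℂ) = ((0 : ℤ) : ℂ) := by
      push_cast; simpa using h
    exact_mod_cast h'
  · have h := hsplit (fun χ => (g χ : ℂ) * ((v χ).P : ℂ)) (fun χ e => by simp [e])
    rw [eP, ht] at h
    have e : ∀ χ, (row χ).E * (row χ).v.P = g χ * (v χ).P := fun χ => by
      rw [(hX χ).2.1]; show s χ * g χ * _ = _; linear_combination (g χ * (v χ).P) * hss χ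
    show ∑ χ ∈ T, _ = 0
    simp only [Function.comp, e]
    have h' : ((∑ χ ∈ T, g χ * (v χ).P : ℤ) : ℂ) = ((0 : ℤ) : ℂ) := by
      push_cast; simpa using h
    exact_mod_cast h'
  · have h := hsplit (fun χ => (g χ : ℂ) * ((v χ).Q : ℂ)) (fun χ e => by simp [e])
    rw [eQ, ht] at h
    have e : ∀ χ, (row χ).E * (row χ).v.Q = g χ * (v χ).Q := fun χ => by
      rw [(hX χ).2.2.1]; show s χ * g χ * _ = _; linear_combination (g χ * (v χ).Q) * hss χ
    show ∑ χ ∈ T, _ = 0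
    simp only [Function.comp, e]
    have h' : ((∑ χ ∈ T, g χ * (v χ).Q : ℤ) : ℂ) = ((0 : ℤ) : ℂ) := by
      push_cast; simpa using h
    exact_mod_cast h'
  · have h := hsplit (fun χ => (g χ : ℂ) * ((v χ).R : ℂ)) (fun χ e => by simp [e])
    rw [eR, ht] at h
    have e : ∀ χ, (row χ).E * (row χ).v.R = g χ * (v χ).R := fun χ => by
      rw [(hX χ).2.2.2]; show s χ * g χ * _ = _; linear_combination (g χ * (v χ).R) * hss χ
    show ∑ χ ∈ T, _ = 0
    simp only [Function.comp, e]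
    have h' : ((∑ χ ∈ T, g χ * (v χ).R : ℤ) : ℂ) = ((0 : ℤ) : ℂ) := by
      push_cast; simpa using h
    exact_mod_cast h'
  · have h := H.class_eq 1
    rw [← hsplit (fun χ => H.fv χ 0 ^ 2 * H.fv χ 1 / (χ : G → ℂ) 1)
      (fun χ e => by rw [hv0, hv1, e]; simp [Vec.f0, Vec.f1])] at h
    simp only [hv0, hv1, hd1, ht] at h
    have : (d (trivIrr G) : ℂ) = 1 := by rw [← hd1, trivIrr_apply]
    rw [this] at h
    have e : ∀ χ, ((row χ).v.f0 : ℂ) ^ 2 * (row χ).v.f1 / (row χ).D =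
        ((v χ).f0 : ℂ) ^ 2 * (v χ).f1 / d χ := fun χ => by
      obtain ⟨a, b, -⟩ := hff χ
      rw [a, b]
      show _ / ((s χ * d χ : ℤ) : ℂ) = _
      simp only [hs]; split_ifs <;> push_cast <;> ring
    show (Nat.card G : ℚ) * (1 + ∑ χ ∈ T, _) = 86400
    simp only [Function.comp]
    have h' : (((Nat.card G : ℚ) * (1 + ∑ χ ∈ T,
        ((row χ).v.f0 : ℚ) ^ 2 * (row χ).v.f1 / (row χ).D) : ℚ) : ℂ) = ((86400 : ℚ) : ℂ) := by
      push_cast
      simp only [e]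
      simp [Vec.f0, Vec.f1] at h ⊢
      convert h using 1; norm_num
    exact_mod_cast h'
  · have h2 := H.class_eq 2
    have h3 := H.class_eq 3
    have h : (Nat.card G : ℂ) * ∑ χ, H.fv χ 0 ^ 2 * ((v χ).f23 : ℂ) / (χ : G → ℂ) 1 = 288000 := by
      have hh : ∀ χ : IrrCharacter G, H.fv χ 0 ^ 2 * ((v χ).f23 : ℂ) / (χ : G → ℂ) 1 =
          H.fv χ 0 ^ 2 * H.fv χ 2 / (χ : G → ℂ) 1 + H.fv χ 0 ^ 2 * H.fv χ 3 / (χ : G → ℂ) 1 :=
        fun χ => by rw [← hf23]; ring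
      simp only [hh, sum_add_distrib, mul_add]
      rw [h2, h3, show (![30, 6, 10, 10] : Fin 4 → ℕ) 2 = 10 from rfl,
        show (![30, 6, 10, 10] : Fin 4 → ℕ) 3 = 10 from rfl]
      norm_num
    rw [← hsplit (fun χ => H.fv χ 0 ^ 2 * ((v χ).f23 : ℂ) / (χ : G → ℂ) 1)
      (fun χ e => by rw [e]; simp [Vec.f23])] at h
    simp only [hv0, hd1, ht] at h
    have : (d (trivIrr G) : ℂ) = 1 := by rw [← hd1, trivIrr_apply]
    rw [this] at h
    have e : ∀ χ, ((row χ).v.f0 : ℂ) ^ 2 * (row χ).v.f23 / (row χ).D =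
        ((v χ).f0 : ℂ) ^ 2 * (v χ).f23 / d χ := fun χ => by
      obtain ⟨a, -, c⟩ := hff χ
      rw [a, c]
      show _ / ((s χ * d χ : ℤ) : ℂ) = _
      simp only [hs]; split_ifs <;> push_cast <;> ring
    show (Nat.card G : ℚ) * (2 + ∑ χ ∈ T, _) = 288000
    simp only [Function.comp]
    have h' : (((Nat.card G : ℚ) * (2 + ∑ χ ∈ T,
        ((row χ).v.f0 : ℚ) ^ 2 * (row χ).v.f23 / (row χ).D) : ℚ) : ℂ) = ((288000 : ℚ) : ℂ) := by
      push_cast
      simp only [e]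
      simp [Vec.f0, Vec.f23] at h ⊢
      convert h using 1
    exact_mod_cast h'
  · have h2 := H.class_eq 2
    have h3 := H.class_eq 3
    have hN : (Nat.card G : ℂ) ≠ 0 := Nat.cast_ne_zero.2 Nat.card_pos.ne'
    have hδ0 : al - be ≠ 0 := fun h => by rw [h] at hδ; norm_num at hδ
    have hh : ∀ χ : IrrCharacter G,
        H.fv χ 0 ^ 2 * H.fv χ 2 / (χ : G → ℂ) 1 - H.fv χ 0 ^ 2 * H.fv χ 3 / (χ : G → ℂ) 1 =
        (al - be) * (((v χ).f0 : ℂ) ^ 2 * (((v χ).P - (v χ).Q : ℤ) : ℂ) / d χ) := fun χ => by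
      rw [hv0, hv2, hv3, hd1]; push_cast; ring
    have h : ∑ χ, ((v χ).f0 : ℂ) ^ 2 * (((v χ).P - (v χ).Q : ℤ) : ℂ) / d χ = 0 := by
      have := h2.trans (show (14400 : ℂ) * ((![30, 6, 10, 10] : Fin 4 → ℕ) 2 : ℕ) =
        14400 * ((![30, 6, 10, 10] : Fin 4 → ℕ) 3 : ℕ) from rfl) |>.trans h3.symm
      rw [← sub_eq_zero, ← mul_sub, mul_eq_zero] at this
      have := this.resolve_left hN
      rw [← sum_sub_distrib] at this
      simp only [hh, ← mul_sum] at this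
      exact (mul_eq_zero.1 this).resolve_left hδ0
    rw [← hsplit (fun χ => ((v χ).f0 : ℂ) ^ 2 * (((v χ).P - (v χ).Q : ℤ) : ℂ) / d χ)
      (fun χ e => by simp [e]), ht] at h
    have e : ∀ χ, ((row χ).v.f0 : ℂ) ^ 2 * (((row χ).v.P - (row χ).v.Q : ℤ) : ℂ) / (row χ).D =
        ((v χ).f0 : ℂ) ^ 2 * (((v χ).P - (v χ).Q : ℤ) : ℂ) / d χ := fun χ => by
      obtain ⟨-, b, c, -⟩ := hX χ
      rw [(hff χ).1, b, c]
      show _ / ((s χ * d χ : ℤ) : ℂ) = _
      simp only [hs]; split_ifs <;> push_cast <;> ring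
    show ∑ χ ∈ T, _ = (0 : ℚ)
    simp only [Function.comp]
    have h' : ((∑ χ ∈ T, ((row χ).v.f0 : ℚ) ^ 2 * (((row χ).v.P - (row χ).v.Q : ℤ) : ℚ) /
        (row χ).D : ℚ) : ℂ) = ((0 : ℚ) : ℂ) := by
      simp only [Rat.cast_sum, Rat.cast_div, Rat.cast_mul, Rat.cast_pow, Rat.cast_intCast, e]
      simpa using h
    exact_mod_cast h'
  · show 1 + ∑ χ ∈ T, ((row χ).D) ^ 2 ≤ _
    have e : ∀ χ, (row χ).D ^ 2 = d χ ^ 2 := fun χ => by
      show (s χ * d χ) ^ 2 = _; linear_combination (d χ ^ 2) * hss χ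
    simp only [e]
    rw [← J1Hyp.sum_degree_sq' (G := G), ← add_sum_erase _ _ (mem_univ (trivIrr G))]
    have : d (trivIrr G) = 1 := by
      have := hd1 (trivIrr G); rw [trivIrr_apply] at this; exact_mod_cast this.symm
    simp only [hd] at this ⊢
    rw [this, one_pow]
    refine add_le_add le_rfl (sum_le_sum_of_subset_of_nonneg (filter_subset _ _) fun χ _ _ => ?_)
    positivity
  · have h1 := H.dvd120
    have h2 := H.dvd16
    omega

end CfsgLib.J1Order
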