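import Cfsg.Agent.Lib.J1Order.Alt5
import Cfsg.Prelude.Def_SporadicB
import Cfsg.Agent.Lib.Transfer.Fusion

/-!
# A simple group with an involution centralizer `2 × A₅`: fusion

The centralizer is parametrised by a homomorphism from `2 × A₅`; the group has one class of
involutions.
-/

set_option autoImplicit false
set_option maxRecDepth 100000
set_option synthInstance.maxSize 4000
set_option synthInstance.maxHeartbeats 400000

namespace CfsgLib.J1Order

open Subgroup

/-- The group `2 × A₅`. -/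
abbrev K5 := Multiplicative (ZMod 2) × A5

/-- The central involution of `2 × A₅`. -/
def zK : K5 := (Multiplicative.ofAdd 1, 1)

theorem eq_zK_of_central : ∀ k : K5, k ^ 2 = 1 → k ≠ 1 → k * (1, cc) = (1, cc) * k →
    k * (1, aa) = (1, aa) * k → k = zK := by
  decide +kernel

theorem sq_eq_one_of_pow_eight : ∀ k : K5, k ^ 8 = 1 → k ^ 2 = 1 := by
  decide +kernel

theorem card_K5 : Nat.card K5 = 120 := by
  rw [Nat.card_eq_fintype_card]; decide +kernel

theorem not_comm_A5 : cc * aa ≠ aa * cc := by decide +kernel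

/-- The Sylow `2`-subgroup of `2 × A₅` fixing the last point. -/
def inE (k : K5) : Prop := k.2 * k.2 = 1 ∧ (k.2 : Equiv.Perm (Fin 5)) 4 = 4

instance : DecidablePred inE := fun _ => inferInstanceAs (Decidable (_ ∧ _))

theorem inE_mul : ∀ a b : K5, inE a → inE b → inE (a * b) := by
  have h : ∀ a b : A5, a * a = 1 → (a : Equiv.Perm (Fin 5)) 4 = 4 → b * b = 1 →
      (b : Equiv.Perm (Fin 5)) 4 = 4 →
      a * b * (a * b) = 1 ∧ ((a * b : A5) : Equiv.Perm (Fin 5)) 4 = 4 := by decide +kernel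
  exact fun a b ha hb => h a.2 b.2 ha.1 ha.2 hb.1 hb.2

theorem inE_inv : ∀ a : K5, inE a → inE a⁻¹ := by decide +kernel

/-- The subgroup of `inE`. -/
def subE : Subgroup K5 where
  carrier := {k | inE k}
  one_mem' := by decide
  mul_mem' := fun ha hb => inE_mul _ _ ha hb
  inv_mem' := fun ha => inE_inv _ ha

theorem card_subE : Nat.card subE = 8 := by
  rw [show Nat.card subE = Nat.card {k : K5 // inE k} from rfl, Nat.card_eq_fintype_card,
    Fintype.card_subtype]
  decide +kernel

theorem sq_inE : ∀ k : K5, inE k → k * k = 1 := by decide +kernel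

theorem orbits_inE : ∀ k : K5, inE k → k ≠ 1 → k = zK ∨
    k = (1, uu) ∨ k = (1, cc * uu * cc⁻¹) ∨ k = (1, cc⁻¹ * uu * cc) ∨
    k = zK * (1, uu) ∨ k = zK * (1, cc * uu * cc⁻¹) ∨ k = zK * (1, cc⁻¹ * uu * cc) := by
  decide +kernel

theorem cc_norm : ∀ k : K5, inE k → inE ((1, cc) * k * (1, cc)⁻¹) ∧
    inE ((1, cc)⁻¹ * k * (1, cc)) := by decide +kernel

theorem fst_one_inE : ∀ k : K5, inE k → ¬ k.1 = 1 → k = zK ∨
    k = zK * (1, uu) ∨ k = zK * (1, cc * uu * cc⁻¹) ∨ k = zK * (1, cc⁻¹ * uu * cc) := by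
  decide +kernel

theorem prod_outer : ∀ a b : K5, ¬ a.1 = 1 → ¬ b.1 = 1 → (a * b).1 = 1 := by
  intro a b
  revert a b
  have h : ∀ x y : Multiplicative (ZMod 2), ¬ x = 1 → ¬ y = 1 → x * y = 1 := by decide
  exact fun a b ha hb => h a.1 b.1 ha hb

/-- A simple group with an involution whose centralizer is `2 × A₅` and one class of
involutions. -/
structure J1Hyp (G : Type*) [Group G] where
  /-- The parametrisation of the centralizer. -/
  φ : K5 →* G
  inj : Function.Injective φ
  cent : ∀ g, g * φ zK = φ zK * g → g ∈ φ.range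
  dvd16 : ¬ 16 ∣ Nat.card G
  one : ∀ u : G, orderOf u = 2 → IsConj (φ zK) u

variable {G : Type*} [Group G] [Finite G]

/-- The parametrisation of a centralizer isomorphic to `2 × A₅`. -/
theorem exists_param {t : G} (ht : orderOf t = 2)
    (e : Subgroup.centralizer ({t} : Set G) ≃* K5) :
    ∃ φ : K5 →* G, Function.Injective φ ∧ φ zK = t ∧
      φ.range = Subgroup.centralizer ({t} : Set G) := by
  let T : Subgroup.centralizer ({t} : Set G) :=
    ⟨t, mem_centralizer_singleton_iff.2 rfl⟩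
  have hT : ∀ j : K5, e T * j = j * e T := fun j => by
    obtain ⟨x, rfl⟩ := e.surjective j
    rw [← map_mul, ← map_mul]
    exact congrArg e (Subtype.ext (mem_centralizer_singleton_iff.1 x.2).symm)
  have h2 : (e T) ^ 2 = 1 := by
    rw [← map_pow, map_eq_one_iff e e.injective]
    exact Subtype.ext (by simpa [T] using ht ▸ pow_orderOf_eq_one t)
  have h1 : e T ≠ 1 := fun h => by
    rw [map_eq_one_iff e e.injective] at h
    have : t = 1 := congrArg Subtype.val h
    rw [this, orderOf_one] at ht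
    omega
  refine ⟨(Subgroup.centralizer ({t} : Set G)).subtype.comp e.symm.toMonoidHom,
    (Subtype.val_injective).comp e.symm.injective, ?_, ?_⟩
  · rw [← eq_zK_of_central _ h2 h1 (hT _) (hT _)]
    simp [T]
  · refine le_antisymm ?_ fun x hx => ⟨e ⟨x, hx⟩, by simp⟩
    rintro _ ⟨k, rfl⟩
    exact (e.symm k).2

/-- A two-central involution with centralizer `2 × A₅`: the Sylow subgroups have order eight. -/
theorem not_sixteen_dvd {t : G} (P : Sylow 2 G) (hP : ∀ x ∈ P, x * t = t * x)
    (e : Subgroup.centralizer ({t} : Set G) ≃* K5) : ¬ 16 ∣ Nat.card G := by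
  intro h
  have h1 : 2 ^ 4 ∣ Nat.card (P : Subgroup G) := P.pow_dvd_card_of_pow_dvd_card (by norm_num; exact h)
  have h2 : Nat.card (P : Subgroup G) ∣ Nat.card (Subgroup.centralizer ({t} : Set G)) :=
    Subgroup.card_dvd_of_le fun x hx => mem_centralizer_singleton_iff.2 (hP x hx)
  have := h1.trans h2
  rw [Nat.card_congr e.toEquiv, card_K5] at this
  norm_num at this

/-- A simple group with a Sylow subgroup of order eight in a centralizer `2 × A₅` has one class
of involutions. -/
theorem exists_hyp [IsSimpleGroup G] {t : G} (ht : orderOf t = 2) (h16 : ¬ 16 ∣ Nat.card G)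
    (e : Subgroup.centralizer ({t} : Set G) ≃* K5) : ∃ H : J1Hyp G, H.φ zK = t := by
  obtain ⟨φ, inj, hz, hr⟩ := exists_param ht e
  refine ⟨⟨φ, inj, fun g hg => hr ▸ mem_centralizer_singleton_iff.2 (hz ▸ hg), h16, ?_⟩, hz⟩
  set P0 : Subgroup G := subE.map φ with hP0
  have hc8 : Nat.card P0 = 8 := by
    rw [← card_subE]
    exact (Nat.card_congr (subE.equivMapOfInjective φ inj).toEquiv).symm
  have hfac : (Nat.card G).factorization 2 = 3 := by
    have h0 : Nat.card G ≠ 0 := Nat.card_pos.ne'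
    have a := (Nat.prime_two.pow_dvd_iff_le_factorization h0 (k := 4)).not.1 (by norm_num; exact h16)
    have b := (Nat.prime_two.pow_dvd_iff_le_factorization h0 (k := 3)).1 (by
      norm_num; exact hc8 ▸ Subgroup.card_subgroup_dvd_card P0)
    omega
  let P : Sylow 2 G := Sylow.ofCard P0 (by rw [hc8, hfac]; rfl)
  have hPeq : (P : Subgroup G) = P0 := Sylow.coe_ofCard _ _
  have hab : IsMulCommutative (P : Subgroup G) := by
    refine ⟨⟨fun a b => ?_⟩⟩
    obtain ⟨x, hx, hxa⟩ := (hPeq ▸ a.2 : (a : G) ∈ P0)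
    obtain ⟨y, hy, hyb⟩ := (hPeq ▸ b.2 : (b : G) ∈ P0)
    have e1 := sq_inE _ hx
    have e2 := sq_inE _ hy
    have e3 := sq_inE _ (inE_mul _ _ hx hy)
    have : x * y = y * x := by
      rw [← inv_eq_of_mul_eq_one_right e3, mul_inv_rev, inv_eq_of_mul_eq_one_right e1,
        inv_eq_of_mul_eq_one_right e2]
    refine Subtype.ext ?_
    simp only [Subgroup.coe_mul, ← hxa, ← hyb, ← map_mul, this]
  -- fusion inside `P0`
  set N := normalizer (P0 : Set G) with hN
  set Q : K5 → Prop := fun k => inE k ∧ ∃ n ∈ N, n * t * n⁻¹ = φ k with hQ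
  have hnorm : ∀ n ∈ N, ∀ k, inE k → ∃ k', inE k' ∧ φ k' = n * φ k * n⁻¹ := fun n hn k hk => by
    obtain ⟨k', hk', e'⟩ := (Subgroup.mem_normalizer_iff.1 hn (φ k)).1 ⟨k, hk, rfl⟩
    exact ⟨k', hk', e'⟩
  have hccN : φ (1, cc) ∈ N := by
    rw [hN, Subgroup.mem_normalizer_iff]
    intro x
    constructor
    · rintro ⟨k, hk, rfl⟩
      exact ⟨_, (cc_norm k hk).1, by simp only [map_mul, map_inv]⟩
    · rintro ⟨k, hk, hx⟩
      refine ⟨_, (cc_norm k hk).2, ?_⟩
      rw [map_mul, map_mul, map_inv, hx]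
      group
  have Qcc : ∀ k, Q k → Q ((1, cc) * k * (1, cc)⁻¹) ∧ Q ((1, cc)⁻¹ * k * (1, cc)) := by
    rintro k ⟨hk, n, hn, e'⟩
    refine ⟨⟨(cc_norm k hk).1, φ (1, cc) * n, N.mul_mem hccN hn, ?_⟩,
      ⟨(cc_norm k hk).2, (φ (1, cc))⁻¹ * n, N.mul_mem (N.inv_mem hccN) hn, ?_⟩⟩
    · rw [map_mul, map_mul, map_inv, ← e']; group
    · rw [map_mul, map_mul, map_inv, ← e']; group
  have Qz : Q zK := ⟨by decide, 1, N.one_mem, by simp [hz]⟩
  have Qn : ∀ n ∈ N, ∀ k k', inE k → inE k' → φ k' = n * φ k * n⁻¹ → (Q k ↔ Q k') := by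
    intro n hn k k' hk hk' e'
    constructor
    · rintro ⟨-, m, hm, em⟩
      exact ⟨hk', n * m, N.mul_mem hn hm, by rw [e', ← em]; group⟩
    · rintro ⟨-, m, hm, em⟩
      refine ⟨hk, n⁻¹ * m, N.mul_mem (N.inv_mem hn) hm, ?_⟩
      rw [show n⁻¹ * m * t * (n⁻¹ * m)⁻¹ = n⁻¹ * (m * t * m⁻¹) * n by group, em, e']
      group
  -- the inner part
  set W : Subgroup G := ((⊤ : Subgroup A5).map (MonoidHom.inr _ A5)).map φ with hW
  have hWmem : ∀ k : K5, φ k ∈ W ↔ k.1 = 1 := fun k => by
    rw [hW, Subgroup.mem_map]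
    constructor
    · rintro ⟨x, ⟨y, -, rfl⟩, e'⟩
      rw [← inj e']; rfl
    · intro h
      exact ⟨k, ⟨k.2, Subgroup.mem_top _, Prod.ext h.symm rfl⟩, rfl⟩
  have hnot : ¬ ∀ n ∈ N, ∀ k, inE k → k.1 = 1 → ∀ k', φ k' = n * φ k * n⁻¹ → k'.1 = 1 := by
    intro hinv
    -- otherwise every commutator lies in `W`
    have hle : ⁅(P : Subgroup G), N⁆ ≤ W := by
      rw [Subgroup.commutator_le]
      intro p hp n hn
      rw [hPeq] at hp
      obtain ⟨k, hk, rfl⟩ := hp
      obtain ⟨k', hk', e'⟩ := hnorm n hn k⁻¹ (inE_inv k hk)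
      rw [commutatorElement_def, show φ k * n * (φ k)⁻¹ * n⁻¹ = φ k * (n * φ k⁻¹ * n⁻¹) by
        rw [map_inv]; group, ← e', ← map_mul, hWmem]
      by_cases hk1 : k.1 = 1
      · have := hinv n hn k⁻¹ (inE_inv k hk) (by rw [Prod.fst_inv, hk1, inv_one]) k' e'
        rw [Prod.fst_mul, hk1, this, one_mul]
      · refine prod_outer k k' hk1 fun hk'1 => hk1 ?_
        have := hinv n⁻¹ (N.inv_mem hn) k' hk' hk'1 k⁻¹ (by rw [e']; group)
        rwa [Prod.fst_inv, inv_eq_one] at this
    have htop : _root_.commutator G = ⊤ := by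
      rcases Subgroup.Normal.eq_bot_or_eq_top (inferInstance : (_root_.commutator G).Normal) with h | h
      · exfalso
        refine not_comm_A5 ?_
        have hmem : φ (1, cc) * φ (1, aa) * (φ (1, cc))⁻¹ * (φ (1, aa))⁻¹ ∈
            _root_.commutator G := by
          rw [_root_.commutator_def, ← commutatorElement_def]
          exact commutator_mem_commutator (Subgroup.mem_top _) (Subgroup.mem_top _)
        rw [h, Subgroup.mem_bot, mul_inv_eq_one, mul_inv_eq_iff_eq_mul, ← map_mul, ← map_mul] at hmem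
        exact (Prod.ext_iff.1 (inj hmem)).2
      · exact h
    have hfoc : (P : Subgroup G) ≤ (P : Subgroup G).focalSubgroup := by
      rw [← Subgroup.commutator_inf_eq_focalSubgroup, htop, top_inf_eq]
    have hNP : normalizer ((P : Subgroup G) : Set G) = N := by rw [hN, hPeq]
    have h' : (P : Subgroup G) ≤ W := hfoc.trans ((Transfer.focalSubgroup_le_commutator_of_control
      (Transfer.abelian_sylow_control P hab)).trans
        (hle.trans' (Subgroup.commutator_mono le_rfl hNP.le)))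
    have := h' (show φ zK ∈ (P : Subgroup G) by
      rw [hPeq]; exact ⟨zK, show inE zK by decide, rfl⟩)
    rw [hWmem] at this
    exact absurd this (by decide)
  have hQu : Q (1, uu) ∧ Q (zK * (1, uu)) := by
    have all1 : ∀ k, inE k → k.1 = 1 → k ≠ 1 → (Q k ↔ Q (1, uu)) := by
      intro k hk h1 hne
      rcases orbits_inE k hk hne with h | h | h | h | h | h | h <;> subst h
      · exact absurd h1 (by decide)
      · exact Iff.rfl
      · refine ⟨fun h => ?_, fun h => ?_⟩
        · convert (Qcc _ h).2 using 1; decide +kernel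
        · convert (Qcc _ h).1 using 1; decide +kernel
      · refine ⟨fun h => ?_, fun h => ?_⟩
        · convert (Qcc _ h).1 using 1; decide +kernel
        · convert (Qcc _ h).2 using 1; decide +kernel
      all_goals exact absurd h1 (by decide +kernel)
    have all2 : ∀ k, inE k → ¬ k.1 = 1 → k ≠ zK → (Q k ↔ Q (zK * (1, uu))) := by
      intro k hk h1 hne
      rcases fst_one_inE k hk h1 with h | h | h | h <;> subst h
      · exact absurd rfl hne
      · exact Iff.rfl
      · refine ⟨fun h => ?_, fun h => ?_⟩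
        · convert (Qcc _ h).2 using 1; decide +kernel
        · convert (Qcc _ h).1 using 1; decide +kernel
      · refine ⟨fun h => ?_, fun h => ?_⟩
        · convert (Qcc _ h).1 using 1; decide +kernel
        · convert (Qcc _ h).2 using 1; decide +kernel
    by_cases b1 : Q (1, uu) <;> by_cases b2 : Q (zK * (1, uu))
    · exact ⟨b1, b2⟩
    · -- the elements outside `W` other than `t` are not fused to `t`
      exfalso
      refine hnot fun n hn k hk hk1 k' e' => ?_
      by_contra hk'1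
      have hne : k ≠ 1 := fun h => by
        rw [h, map_one, mul_one, mul_inv_cancel, ← map_one φ] at e'
        exact hk'1 (inj e' ▸ rfl)
      have hk' : inE k' := by
        obtain ⟨k'', h'', e''⟩ := hnorm n hn k hk
        exact inj (e''.trans e'.symm) ▸ h''
      have hQk' : Q k' := (Qn n hn k k' hk hk' e').1 ((all1 k hk hk1 hne).2 b1)
      have hkz : k' = zK := by
        by_contra h
        exact b2 ((all2 k' hk' hk'1 h).1 hQk')
      -- `t` is a product of two non-fused elements
      obtain ⟨a, b, ha, hb, hab'⟩ : ∃ a b : K5, (inE a ∧ ¬ a.1 = 1 ∧ a ≠ zK) ∧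
          (inE b ∧ ¬ b.1 = 1 ∧ b ≠ zK) ∧ k = a * b := by
        have key : ∀ k : K5, inE k → k.1 = 1 → k ≠ 1 →
            ((Finset.univ.filter fun a : K5 => (inE a ∧ ¬ a.1 = 1 ∧ a ≠ zK) ∧
              (inE (a * k) ∧ ¬ (a * k).1 = 1 ∧ a * k ≠ zK))).Nonempty := by decide +kernel
        obtain ⟨a, ha⟩ := key k hk hk1 hne
        rw [Finset.mem_filter] at ha
        refine ⟨a, a * k, ha.2.1, ha.2.2, ?_⟩
        rw [← mul_assoc, sq_inE a ha.2.1.1, one_mul]
      obtain ⟨a', ha', ea⟩ := hnorm n hn a ha.1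
      obtain ⟨b', hb', eb⟩ := hnorm n hn b hb.1
      have out : ∀ c c', inE c → ¬ c.1 = 1 → c ≠ zK → inE c' → φ c' = n * φ c * n⁻¹ →
          ¬ c'.1 = 1 := by
        intro c c' hc hc1 hcz hc' ec hc'1
        have hc'ne : c' ≠ 1 := fun h => by
          rw [h, map_one, eq_comm, mul_inv_eq_one, mul_eq_left] at ec
          exact hc1 (by rw [inj (ec.trans (map_one φ).symm)]; rfl)
        exact b2 ((all2 c hc hc1 hcz).1 ((Qn n hn c c' hc hc' ec).2
          ((all1 c' hc' hc'1 hc'ne).2 b1)))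
      have hprod : k' = a' * b' := inj (by
        rw [map_mul, ea, eb, e', hab', map_mul]; group)
      refine hk'1 ?_
      rw [hprod]
      exact prod_outer _ _ (out a a' ha.1 ha.2.1 ha.2.2 ha' ea)
        (out b b' hb.1 hb.2.1 hb.2.2 hb' eb)
    · exfalso
      refine hnot fun n hn k hk hk1 k' e' => ?_
      by_contra hk'1
      have hne : k ≠ 1 := fun h => by
        rw [h, map_one, mul_one, mul_inv_cancel, ← map_one φ] at e'
        exact hk'1 (inj e' ▸ rfl)
      have hk' : inE k' := by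
        obtain ⟨k'', h'', e''⟩ := hnorm n hn k hk
        exact inj (e''.trans e'.symm) ▸ h''
      have hQk' : Q k' := by
        by_cases h : k' = zK
        · exact h ▸ Qz
        · exact (all2 k' hk' hk'1 h).2 b2
      exact b1 ((all1 k hk hk1 hne).1 ((Qn n hn k k' hk hk' e').2 hQk'))
    · exfalso
      refine hnot fun n hn k hk hk1 k' e' => ?_
      by_contra hk'1
      have hne : k ≠ 1 := fun h => by
        rw [h, map_one, mul_one, mul_inv_cancel, ← map_one φ] at e'
        exact hk'1 (inj e' ▸ rfl)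
      have hk' : inE k' := by
        obtain ⟨k'', h'', e''⟩ := hnorm n hn k hk
        exact inj (e''.trans e'.symm) ▸ h''
      obtain ⟨a, b, ha, hb, hab'⟩ : ∃ a b : K5, (inE a ∧ ¬ a.1 = 1 ∧ a ≠ zK) ∧
          (inE b ∧ ¬ b.1 = 1 ∧ b ≠ zK) ∧ k = a * b := by
        have key : ∀ k : K5, inE k → k.1 = 1 → k ≠ 1 →
            ((Finset.univ.filter fun a : K5 => (inE a ∧ ¬ a.1 = 1 ∧ a ≠ zK) ∧
              (inE (a * k) ∧ ¬ (a * k).1 = 1 ∧ a * k ≠ zK))).Nonempty := by decide +kernel
        obtain ⟨a, ha⟩ := key k hk hk1 hne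
        rw [Finset.mem_filter] at ha
        refine ⟨a, a * k, ha.2.1, ha.2.2, ?_⟩
        rw [← mul_assoc, sq_inE a ha.2.1.1, one_mul]
      -- all of `t` is fixed, so `k'` is not `t`
      have hkz : k' ≠ zK := fun h => b1 ((all1 k hk hk1 hne).1
        ((Qn n hn k k' hk hk' e').2 (h ▸ Qz)))
      obtain ⟨c, hc, ec⟩ := hnorm n hn zK (by decide)
      have hcz : c = zK := by
        by_contra h
        have hQc : Q c := ⟨hc, n, hn, by rw [ec, hz]⟩
        have hc1 : c ≠ 1 := fun h' => by
          rw [h', map_one, eq_comm, mul_inv_eq_one, mul_eq_left, ← map_one φ] at ec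
          exact absurd (inj ec) (by decide)
        by_cases h1 : c.1 = 1
        · exact b1 ((all1 c hc h1 hc1).1 hQc)
        · exact b2 ((all2 c hc h1 h).1 hQc)
      -- then `n` centralizes `t`, so it lies in `2 × A₅` and preserves `W`
      have hnC : n ∈ φ.range := by
        rw [hr, mem_centralizer_singleton_iff]
        have := ec.symm
        rw [hcz, hz, mul_inv_eq_iff_eq_mul] at this
        exact this
      obtain ⟨m, rfl⟩ := hnC
      rw [← map_mul, ← map_inv, ← map_mul] at e'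
      refine hk'1 ?_
      rw [inj e', Prod.fst_mul, Prod.fst_mul, Prod.fst_inv, hk1, mul_one, mul_inv_cancel]
  intro u hu
  obtain ⟨S, hS⟩ := (IsPGroup.of_card (p := 2) (n := 1) (by
    rw [Nat.card_zpowers, hu, pow_one]) : IsPGroup 2 (Subgroup.zpowers u)).exists_le_sylow
  obtain ⟨g, hg⟩ := MulAction.exists_smul_eq G S P
  have hm : g * u * g⁻¹ ∈ (P : Subgroup G) := by
    rw [← hg, Sylow.coe_subgroup_smul]
    exact ⟨u, hS (Subgroup.mem_zpowers u), rfl⟩
  rw [hPeq] at hm
  obtain ⟨k, hk, ek⟩ := hm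
  have hk1 : k ≠ 1 := fun h => by
    rw [h, map_one, eq_comm, mul_inv_eq_one, mul_eq_left] at ek
    rw [ek, orderOf_one] at hu
    omega
  have hQk : Q k := by
    rcases orbits_inE k hk hk1 with h | h | h | h | h | h | h <;> subst h
    · exact Qz
    · exact hQu.1
    · exact (Qcc _ hQu.1).1
    · convert (Qcc _ hQu.1).2 using 1; decide +kernel
    · exact hQu.2
    · convert (Qcc _ hQu.2).1 using 1; decide +kernel
    · convert (Qcc _ hQu.2).2 using 1; decide +kernel
  obtain ⟨-, n, -, en⟩ := hQk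
  exact hz ▸ (isConj_iff.2 ⟨n, en.trans ek⟩).trans (isConj_iff.2 ⟨g⁻¹, by group⟩)

end CfsgLib.J1Order
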