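import Cfsg.Agent.Lib.J1Order.Checks
import Cfsg.Agent.Lib.Blocks.Orth
import Cfsg.Agent.Lib.BrauerCharacters.ClassMul
import Cfsg.Agent.Lib.CharTheory.Linear
import Cfsg.Agent.Lib.CharDegreesTheory.IrrComp

/-!
# Character values on the section of the involution

Orthogonality, products of the involution class with itself, and degrees.
-/

set_option autoImplicit false
set_option maxRecDepth 100000
set_option synthInstance.maxSize 4000
set_option synthInstance.maxHeartbeats 400000

namespace CfsgLib.J1Order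

open Cfsg CfsgLib.CharTheory Finset
open scoped ComplexConjugate

variable {G : Type*} [Group G] [Fintype G] (H : J1Hyp G)

namespace J1Hyp

/-- The involution. -/
def tE : G := H.φ zK

/-- The value at `t x`. -/
def fv (χ : IrrCharacter G) (i : Fin 4) : ℂ := (χ : G → ℂ) (H.φ (mK (oddRep i)))

/-- The value at an element of odd order of `A₅`. -/
def gv (χ : IrrCharacter G) (i : Fin 4) : ℂ := (χ : G → ℂ) (H.φ (1, oddRep i))

theorem orderOf_tE : orderOf H.tE = 2 := by
  rw [tE, orderOf_injective H.φ H.inj]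
  refine orderOf_eq_prime (p := 2) ?_ ?_ <;> decide

theorem mK_one : mK (oddRep 0) = zK := by decide +kernel

theorem fv_zero (χ : IrrCharacter G) : H.fv χ 0 = (χ : G → ℂ) H.tE := by
  rw [fv, mK_one, tE]

theorem pow15 (i : Fin 4) : H.φ (mK (oddRep i)) ^ 15 = H.tE := by
  rw [← map_pow, (oddRep_pow i).1, tE]

theorem pow15' (i : Fin 4) : H.φ (1, oddRep i) ^ 15 = 1 := by
  rw [← map_pow, (oddRep_pow i).2, map_one]

/-- An element carrying `t x` to `t y` centralizes `t`. -/
theorem mem_range_of_semiconj {i j : Fin 4} {z : G}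
    (h : SemiconjBy z (H.φ (mK (oddRep j))) (H.φ (mK (oddRep i)))) : z ∈ H.φ.range := by
  refine H.cent z ?_
  have := (h.pow_right 15).eq
  rwa [pow15, pow15] at this

theorem conj_fv (χ : IrrCharacter G) (i : Fin 4) : conj (H.fv χ i) = H.fv χ i := by
  obtain ⟨k, hk⟩ := real_K5 i
  rw [mem_filter] at hk
  rw [fv, BrauerCharacters.conj_apply]
  refine (irr_apply_eq_of_isConj (isConj_iff.2 ⟨H.φ k, ?_⟩) χ).symm
  rw [mul_inv_eq_iff_eq_mul, ← map_mul, hk.2, map_mul, map_inv]

theorem conj_gv (χ : IrrCharacter G) (i : Fin 4) : conj (H.gv χ i) = H.gv χ i := by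
  obtain ⟨k, hk⟩ := real_A5 i
  rw [mem_filter] at hk
  rw [gv, BrauerCharacters.conj_apply]
  refine (irr_apply_eq_of_isConj (isConj_iff.2 ⟨H.φ k, ?_⟩) χ).symm
  rw [mul_inv_eq_iff_eq_mul, ← map_mul, hk.2, map_mul, map_inv]

variable [Fintype (IrrCharacter G)]

/-- The orthogonality relations on the section. -/
theorem gram (i j : Fin 4) :
    ∑ χ : IrrCharacter G, H.fv χ i * H.fv χ j =
      ((if i = j then ![120, 6, 10, 10] i else 0 : ℕ) : ℂ) := by
  classical
  have h := Blocks.sum_mul_eq_card_fixed (H.φ (mK (oddRep i))) (H.φ (mK (oddRep j)))⁻¹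
  have e : ∀ χ : IrrCharacter G,
      (χ : G → ℂ) (H.φ (mK (oddRep j)))⁻¹ = H.fv χ j := fun χ => by
    rw [← BrauerCharacters.conj_apply]
    exact H.conj_fv χ j
  simp only [e] at h
  rw [show (fun χ : IrrCharacter G => H.fv χ i * H.fv χ j) =
    fun χ : IrrCharacter G => (χ : G → ℂ) (H.φ (mK (oddRep i))) * H.fv χ j from rfl, h,
    ← card_conj_K5 i j, Nat.cast_inj]
  rw [← card_image_of_injective _ H.inj]
  congr 1
  ext z
  simp only [mem_filter, mem_univ, true_and, mem_image]
  rw [mul_inv_eq_iff_eq_mul]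
  refine ⟨fun hz => ?_, ?_⟩
  · obtain ⟨k, rfl⟩ := H.mem_range_of_semiconj (z := z) hz.symm
    exact ⟨k, H.inj (by rwa [map_mul, map_mul]), rfl⟩
  · rintro ⟨k, hk, rfl⟩
    rw [← map_mul, ← map_mul, hk]

/-- The degree and the values on the section are orthogonal. -/
theorem sum_degree_fv (i : Fin 4) : ∑ χ : IrrCharacter G, (χ : G → ℂ) 1 * H.fv χ i = 0 := by
  classical
  rw [show (∑ χ : IrrCharacter G, (χ : G → ℂ) 1 * H.fv χ i) =
    ∑ χ : IrrCharacter G, (χ : G → ℂ) 1 * (χ : G → ℂ) (H.φ (mK (oddRep i))) from rfl,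
    sum_degree_mul, if_neg]
  intro h
  have := H.pow15 i
  rw [h, one_pow] at this
  have h2 := H.orderOf_tE
  rw [← this, orderOf_one] at h2
  omega

/-- Values at `y` of odd order and values on the section are orthogonal. -/
theorem sum_gv_fv (i j : Fin 4) : ∑ χ : IrrCharacter G, H.gv χ i * H.fv χ j = 0 := by
  classical
  have h := Blocks.sum_mul_eq_card_fixed (H.φ (1, oddRep i)) (H.φ (mK (oddRep j)))⁻¹
  have e : ∀ χ : IrrCharacter G,
      (χ : G → ℂ) (H.φ (mK (oddRep j)))⁻¹ = H.fv χ j := fun χ => by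
    rw [← BrauerCharacters.conj_apply]
    exact H.conj_fv χ j
  simp only [e] at h
  refine h.trans ?_
  rw [Nat.cast_eq_zero, card_eq_zero, filter_eq_empty_iff]
  intro z _ hz
  rw [mul_inv_eq_iff_eq_mul] at hz
  have h15 := ((SemiconjBy.pow_right (show SemiconjBy z (H.φ (mK (oddRep j))) (H.φ (1, oddRep i))
    from hz.symm)) 15).eq
  rw [pow15, pow15', one_mul] at h15
  have h2 := H.orderOf_tE
  rw [mul_eq_left.1 h15, orderOf_one] at h2
  omega

/-- Pairs of involutions with product `t x`. -/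
theorem class_eq (i : Fin 4) :
    (Nat.card G : ℂ) * ∑ χ : IrrCharacter G, H.fv χ 0 ^ 2 * H.fv χ i / (χ : G → ℂ) 1 =
      14400 * (![30, 6, 10, 10] i : ℕ) := by
  classical
  set g := H.φ (mK (oddRep i)) with hg
  have h := BrauerCharacters.sum_weight_pairs H.tE H.tE
    (fun w : G => if w = g then (1 : ℂ) else 0)
  simp only [ite_mul, one_mul, zero_mul, Finset.sum_ite_eq', Finset.mem_univ, if_true] at h
  have hcard : (univ.filter fun x => IsConj H.tE x ∧ IsConj H.tE (x * g)).card =
      (univ.filter fun k : K5 => k * k = 1 ∧ k ≠ 1 ∧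
        k * mK (oddRep i) * (k * mK (oddRep i)) = 1 ∧ k * mK (oddRep i) ≠ 1).card := by
    rw [← card_image_of_injective _ H.inj]
    congr 1
    ext x
    simp only [mem_filter, mem_univ, true_and, mem_image]
    have hinv : ∀ y : G, IsConj H.tE y ↔ y * y = 1 ∧ y ≠ 1 := fun y => by
      refine ⟨fun hy => ?_, fun hy => H.one y (orderOf_eq_prime (p := 2) (by rw [sq, hy.1]) hy.2)⟩
      obtain ⟨c, rfl⟩ := isConj_iff.1 hy
      have ho : orderOf (c * H.tE * c⁻¹) = 2 :=
        (orderOf_injective (MulAut.conj c).toMonoidHom (MulAut.conj c).injective H.tE).trans H.orderOf_tE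
      exact ⟨by rw [← sq, ← ho, pow_orderOf_eq_one], fun h1 => by rw [h1, orderOf_one] at ho; omega⟩
    rw [hinv, hinv]
    constructor
    · rintro ⟨⟨hx, hx1⟩, hxg, hxg1⟩
      have hs : SemiconjBy x g g⁻¹ := by
        refine eq_inv_mul_of_mul_eq ?_
        calc g * (x * g) = x⁻¹ * (x * g * (x * g)) := by group
          _ = x := by rw [hxg, mul_one, inv_eq_of_mul_eq_one_right hx]
      obtain ⟨k, rfl⟩ : x ∈ H.φ.range := H.cent x (by
        have := (hs.pow_right 15).eq
        rw [inv_pow, hg, pow15, inv_eq_of_mul_eq_one_right (by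
          rw [← sq]; nth_rw 1 [← H.orderOf_tE]; exact pow_orderOf_eq_one _)] at this
        exact this)
      refine ⟨k, ⟨H.inj (by simp [hx]), fun e => hx1 (by rw [e, map_one]), H.inj ?_,
        fun e => hxg1 (by rw [hg, ← map_mul, e, map_one])⟩, rfl⟩
      rw [map_one, map_mul, map_mul]
      exact hxg
    · rintro ⟨k, ⟨h1, h2, h3, h4⟩, rfl⟩
      refine ⟨⟨by rw [← map_mul, h1, map_one], fun e => h2 (H.inj (e.trans (map_one _).symm))⟩,
        by rw [hg, ← map_mul, ← map_mul, h3, map_one], fun e => h4 (H.inj ?_)⟩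
      rw [map_mul, map_one]
      exact e
  have hc2 := hcard.trans (card_inverters i)
  replace h : ((![30, 6, 10, 10] i : ℕ) : ℂ) =
      ((Subgroup.centralizer ({H.tE} : Set G)).index : ℂ) / (Nat.card G : ℂ) *
        ∑ χ : IrrCharacter G, centralChar (χ : G → ℂ) H.tE * conj ((χ : G → ℂ) H.tE) *
          (χ : G → ℂ) g := by
    rw [← hc2]
    convert h using 4
  have hidx : ((Subgroup.centralizer ({H.tE} : Set G)).index : ℂ) * 120 = (Nat.card G : ℂ) := by
    have e : Subgroup.centralizer ({H.tE} : Set G) = H.φ.range := by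
      refine le_antisymm (fun z hz => H.cent z (Subgroup.mem_centralizer_singleton_iff.1 hz)) ?_
      rintro _ ⟨k, rfl⟩
      rw [Subgroup.mem_centralizer_singleton_iff, tE, ← map_mul, ← map_mul]
      congr 1
      exact Prod.ext (mul_comm _ _) (by simp [zK])
    have c : Nat.card (Subgroup.centralizer ({H.tE} : Set G)) = 120 := by
      rw [e, ← card_K5]
      exact (Nat.card_congr (MonoidHom.ofInjective H.inj).toEquiv).symm
    have := (Subgroup.centralizer ({H.tE} : Set G)).index_mul_card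
    rw [c] at this
    exact_mod_cast this
  have hN : (Nat.card G : ℂ) ≠ 0 := Nat.cast_ne_zero.2 Nat.card_pos.ne'
  have hterm : ∀ χ : IrrCharacter G,
      centralChar (χ : G → ℂ) H.tE * conj ((χ : G → ℂ) H.tE) * (χ : G → ℂ) g =
        ((Subgroup.centralizer ({H.tE} : Set G)).index : ℂ) *
          (H.fv χ 0 ^ 2 * H.fv χ i / (χ : G → ℂ) 1) := fun χ => by
    rw [← fv_zero, conj_fv, centralChar, fv_zero, fv, hg]
    ring
  simp only [hterm, ← mul_sum] at h
  rw [h, ← hidx] at *
  field_simp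
  ring

theorem sum_degree_sq' :
    ∑ χ : IrrCharacter G, (charDegree (χ : G → ℂ) : ℤ) ^ 2 = Nat.card G := by
  have h := sum_degree_sq (G := G)
  have e : ∀ χ : IrrCharacter G, (χ : G → ℂ) 1 = (charDegree (χ : G → ℂ) : ℂ) :=
    fun χ => (BrauerCharacters.charDegree_spec χ).1
  simp only [e] at h
  exact_mod_cast h

omit [Fintype (IrrCharacter G)]

theorem dvd120 (H : J1Hyp G) : 120 ∣ Nat.card G := by
  rw [← card_K5]
  exact (Nat.card_congr (MonoidHom.ofInjective H.inj).toEquiv) ▸
    Subgroup.card_subgroup_dvd_card H.φ.range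

/-- A linear character of the simple group is trivial. -/
theorem eq_triv_of_degree_one [IsSimpleGroup G] (H : J1Hyp G) (χ : IrrCharacter G)
    (h : (χ : G → ℂ) 1 = 1) : χ = trivIrr G := by
  obtain ⟨μ, hμ⟩ := exists_hom_of_degree_one χ.2 h
  rcases Subgroup.Normal.eq_bot_or_eq_top (inferInstance : μ.ker.Normal) with hk | hk
  · exfalso
    refine not_comm_A5 ?_
    have hinj := (MonoidHom.ker_eq_bot_iff μ).1 hk
    have := hinj (show μ (H.φ (1, cc) * H.φ (1, aa)) = μ (H.φ (1, aa) * H.φ (1, cc)) by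
      rw [map_mul, map_mul, mul_comm])
    rw [← map_mul, ← map_mul] at this
    exact (Prod.ext_iff.1 (H.inj this)).2
  · refine Subtype.ext (hμ.trans (funext fun g => ?_))
    rw [trivIrr_apply, MonoidHom.mem_ker.1 (hk ▸ Subgroup.mem_top g : g ∈ μ.ker), Units.val_one]

/-- The values on the Sylow subgroup. -/
theorem degree_add_seven (χ : IrrCharacter G) :
    ∃ m : ℕ, (charDegree (χ : G → ℂ) : ℂ) + 7 * H.fv χ 0 = 8 * m := by
  classical
  obtain ⟨m, hm⟩ := BrauerCharacters.exists_nat_sum_subgroup χ (subE.map H.φ)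
  have hc : Nat.card (subE.map H.φ) = 8 := by
    rw [← card_subE]
    exact (Nat.card_congr (subE.equivMapOfInjective H.φ H.inj).toEquiv).symm
  refine ⟨m, ?_⟩
  rw [hc] at hm
  push_cast at hm
  rw [← hm]
  simp only [ite_mul, one_mul, zero_mul, ← sum_filter]
  have h1 : (1 : G) ∈ univ.filter (fun u => u ∈ subE.map H.φ) :=
    mem_filter.2 ⟨mem_univ _, (subE.map H.φ).one_mem⟩
  rw [← add_sum_erase _ _ h1, ← (BrauerCharacters.charDegree_spec χ).1,
    sum_congr rfl (g := fun _ => H.fv χ 0) (fun u hu => ?_), sum_const,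
    card_erase_of_mem h1, nsmul_eq_mul]
  · have : (univ.filter fun u => u ∈ subE.map H.φ).card = 8 := by
      rw [← hc, Nat.card_eq_fintype_card, Fintype.card_subtype]
    rw [this]; norm_num
  · rw [mem_erase, mem_filter] at hu
    obtain ⟨k, hk, rfl⟩ := hu.2.2
    rw [fv_zero]
    refine (irr_apply_eq_of_isConj (H.one _ (orderOf_eq_prime (p := 2) ?_ hu.1)) χ).symm
    rw [sq, ← map_mul, sq_inE k hk, map_one]

theorem inE_uu : inE ((1, uu) : K5) := by decide +kernel

theorem inE_zuu : inE (zK * (1, uu) : K5) := by decide +kernel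

/-- The two parts of the restriction to `2 × A₅`. -/
theorem exists_parts (χ : IrrCharacter G) :
    IsCharacter A5 (fun x => ((χ : G → ℂ) (H.φ (1, x)) + (χ : G → ℂ) (H.φ (mK x))) / 2) ∧
    IsCharacter A5 (fun x => ((χ : G → ℂ) (H.φ (1, x)) - (χ : G → ℂ) (H.φ (mK x))) / 2) := by
  classical
  haveI := Fintype.ofFinite (IrrCharacter A5)
  have hsgn : ∀ ε : ℂˣ, ε * ε = 1 → IsCharacter K5 fun k => (((if k.1 = 1 then 1 else ε) : ℂˣ) : ℂ) := by
    intro ε hε
    let μ : K5 →* ℂˣ :=
      { toFun := fun k => if k.1 = 1 then 1 else ε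
        map_one' := by simp
        map_mul' := fun a b => by
          have h2 : ∀ y : Multiplicative (ZMod 2), y = 1 ∨ y = Multiplicative.ofAdd 1 := by decide
          rcases h2 a.1 with ha | ha <;> rcases h2 b.1 with hb | hb <;>
            simp [ha, hb, hε, ← ofAdd_add, show (1 : ZMod 2) + 1 = 0 from rfl] }
    exact IsIrrCharacter.isCharacter (isIrrCharacter_linear μ)
  have hcl : IsClassFunction K5 fun k => (χ : G → ℂ) (H.φ k) := fun a b => by
    simp only [map_mul, map_inv]
    exact IsIrrCharacter.isClassFunction χ.2 _ _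
  have main : ∀ ε : ℂˣ, ε * ε = 1 → IsCharacter A5
      fun x => ((χ : G → ℂ) (H.φ (1, x)) + (ε : ℂ) * (χ : G → ℂ) (H.φ (mK x))) / 2 := by
    intro ε hε
    set θ : A5 → ℂ :=
      fun x => ((χ : G → ℂ) (H.φ (1, x)) + (ε : ℂ) * (χ : G → ℂ) (H.φ (mK x))) / 2 with hθ
    have hθc : IsClassFunction A5 θ := fun x y => by
      have e1 := hcl (1, x) (1, y)
      have e2 := hcl (mK x) (1, y)
      simp only [mK, zK, Prod.mk_mul_mk, Prod.inv_mk, one_mul, mul_one, inv_one] at e1 e2 ⊢
      simp only [θ, mK, zK, Prod.mk_mul_mk, one_mul, mul_one, e1, e2]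
    rw [isCharacter_iff_exists_sum]
    have hn : ∀ ψ : IrrCharacter A5, ∃ n : ℕ, classInner θ (ψ : A5 → ℂ) = n := by
      intro ψ
      have c1 : IsCharacter K5 fun k => (χ : G → ℂ) (H.φ k) :=
        CharDegreesTheory.isCharacter_comp_hom (IsIrrCharacter.isCharacter χ.2) H.φ
      have c2 : IsCharacter K5 fun k =>
          (((if k.1 = 1 then 1 else ε) : ℂˣ) : ℂ) * (ψ : A5 → ℂ) k.2 :=
        isCharacter_mul (hsgn ε hε) (CharDegreesTheory.isCharacter_comp_hom
          (IsIrrCharacter.isCharacter ψ.2) (MonoidHom.snd (Multiplicative (ZMod 2)) A5))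
      haveI := Fintype.ofFinite (IrrCharacter K5)
      obtain ⟨m, hm⟩ := IsCharacter.exists_sum c2
      choose k hk using fun φ' => IsCharacter.exists_classInner_eq_nat c1 φ'
      refine ⟨∑ φ', m φ' * k φ', ?_⟩
      have hεc : conj (ε : ℂ) = ε := by
        have : (ε : ℂ) * ε = 1 := by rw [← Units.val_mul, hε, Units.val_one]
        rcases mul_self_eq_one_iff.1 this with e | e <;> simp [e]
      have e : classInner θ (ψ : A5 → ℂ) = classInner (fun k => (χ : G → ℂ) (H.φ k))
          (fun k : K5 => (((if k.1 = 1 then 1 else ε) : ℂˣ) : ℂ) * (ψ : A5 → ℂ) k.2) := by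
        have hu : (univ : Finset (Multiplicative (ZMod 2))) =
          {1, Multiplicative.ofAdd 1} := by decide
        rw [classInner, classInner, card_K5, card_A5, Fintype.sum_prod_type, hu,
          sum_pair (by decide), ← sum_add_distrib, mul_sum, mul_sum]
        refine sum_congr rfl fun x _ => ?_
        rw [if_pos rfl, if_neg (show ¬ Multiplicative.ofAdd (1 : ZMod 2) = 1 by decide)]
        simp only [θ, mK, zK, Prod.mk_mul_mk, one_mul, mul_one, Units.val_one, map_mul, map_one,
          hεc]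
        push_cast
        ring
      rw [e, hm, classInner_sum_right]
      push_cast
      exact sum_congr rfl fun φ' _ => by rw [classInner_smul_right, hk]; simp
    choose n hn' using hn
    refine ⟨n, ?_⟩
    conv_lhs => rw [eq_sum_classInner hθc]
    exact sum_congr rfl fun ψ _ => by rw [hn']
  refine ⟨?_, ?_⟩
  · have := main 1 (one_mul 1)
    simpa using this
  · have := main (-1) (by simp)
    simpa [sub_eq_add_neg] using this

end J1Hyp

end CfsgLib.J1Order
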